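import Groth.Agent.GmDiv.Filtration
import Groth.Agent.EtFound.AbRecollement
import Groth.Agent.AlgSpDec.OneFlat
import Groth.Agent.EtLC12.RpushTorsion

/-!
# The sheaf of divisors of a reduced scheme of dimension at most one
-/

set_option autoImplicit false
set_option linter.style.haveILetI false
set_option linter.unusedSectionVars false
set_option backward.isDefEq.respectTransparency false
set_option backward.isDefEq.respectTransparency.types false

universe u

open CategoryTheory CategoryTheory.Limits AlgebraicGeometry Opposite TopologicalSpace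

noncomputable section

namespace Groth.Agent.GmDiv

attribute [local instance] Abelian.hasFiniteBiproducts

variable {X : Scheme.{u}}

theorem no_chain (hdim : topologicalKrullDim X ≤ 1) {x y z : X} (hzy : z ⤳ y) (hyx : y ⤳ x) (h1 : z ≠ y)
    (h2 : y ≠ x) : False := by
  let cl : X → IrreducibleCloseds X := fun a => ⟨closure {a}, isIrreducible_singleton.closure, isClosed_closure⟩
  have hlt : ∀ {a b : X}, b ⤳ a → b ≠ a → cl a < cl b := fun {a b} h hne => by
    refine lt_of_le_of_ne (show closure {a} ⊆ closure {b} from specializes_iff_closure_subset.1 h) fun e => hne ?_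
    exact (h.antisymm (specializes_iff_closure_subset.2 (congrArg (fun c : IrreducibleCloseds X => (c : Set X)) e).ge)).eq
  let p : LTSeries (IrreducibleCloseds X) :=
    ((RelSeries.singleton _ (cl x)).snoc (cl y) (hlt hyx h2)).snoc (cl z) (by
      rw [RelSeries.last_snoc]; exact hlt hzy h1)
  have h := (Order.LTSeries.length_le_krullDim p).trans hdim
  exact absurd h (by norm_num [p])

theorem isH1X_of_dim (hdim : topologicalKrullDim X ≤ 1) {x : X} (hx : ¬ ∀ y : X, y ⤳ x → y = x) : IsH1X x :=
  ⟨hx, fun y hy => or_iff_not_imp_left.2 fun hne z hz => by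
    by_contra h
    exact no_chain hdim hz hy h hne⟩

theorem eq_of_specializes_of_dim (hdim : topologicalKrullDim X ≤ 1) {x y : X} (hx : ¬ ∀ y : X, y ⤳ x → y = x)
    (h : x ⤳ y) : y = x := by
  simp only [not_forall, exists_prop] at hx
  obtain ⟨z, hz, hne⟩ := hx
  by_contra h'
  exact no_chain hdim hz h hne (Ne.symm h')

theorem isClosed_singleton_of_dim (hdim : topologicalKrullDim X ≤ 1) {x : X} (hx : ¬ ∀ y : X, y ⤳ x → y = x) :
    IsClosed ({x} : Set X) :=
  closure_eq_iff_isClosed.1 (Set.Subset.antisymm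
    (fun _ hy => eq_of_specializes_of_dim hdim hx (specializes_iff_mem_closure.2 hy)) subset_closure)

theorem isClosedImmersion_ptI (hdim : topologicalKrullDim X ≤ 1) (x : H1 X) : IsClosedImmersion (ptI x.1) := by
  haveI : IsPreimmersion (ptI x.1) := inferInstanceAs (IsPreimmersion (X.fromSpecResidueField x.1))
  refine IsClosedImmersion.of_isPreimmersion _ ?_
  rw [show Set.range (ptI x.1) = {x.1} from Scheme.range_fromSpecResidueField x.1]
  exact isClosed_singleton_of_dim hdim x.2.1

theorem isDomain_stalk_of_maximal [IsReduced X] {x : X} (hx : ∀ y : X, y ⤳ x → y = x) :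
    IsDomain (X.presheaf.stalk x) := by
  have hone : ∀ P Q : PrimeSpectrum (X.presheaf.stalk x), P = Q := fun P Q =>
    (X.fromSpecStalk x).isEmbedding.injective
      ((hx _ ((Scheme.range_fromSpecStalk (x := x)).le ⟨P, rfl⟩)).trans
        (hx _ ((Scheme.range_fromSpecStalk (x := x)).le ⟨Q, rfl⟩)).symm)
  obtain ⟨P⟩ := (inferInstance : Nonempty (PrimeSpectrum (X.presheaf.stalk x)))
  have hnil : nilradical (X.presheaf.stalk x) = P.asIdeal := by
    rw [nilradical_eq_sInf]
    exact le_antisymm (sInf_le P.2) (le_sInf fun J hJ => (congrArg PrimeSpectrum.asIdeal (hone P ⟨J, hJ⟩)).le)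
  rw [nilradical_eq_zero] at hnil
  haveI : (⊥ : Ideal (X.presheaf.stalk x)).IsPrime := by rw [← Ideal.zero_eq_bot, hnil]; exact P.2
  exact IsDomain.of_bot_isPrime _

theorem maximal_iff (W : X.Etale) (w : W.left) :
    (∀ y : W.left, y ⤳ w → y = w) ↔ ∀ y : X, y ⤳ W.hom w → y = W.hom w := by
  haveI : Etale W.hom := W.prop
  refine ⟨fun h y hy => ?_, fun h y hy => ?_⟩
  · obtain ⟨y', hy', rfl⟩ := Flat.generalizingMap W.hom hy
    rw [h y' hy']
  · have e := h _ (hy.map W.hom.continuous)
    haveI : DiscreteTopology (W.hom ⁻¹' {W.hom w} : Set W.left) :=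
      (W.hom.isDiscrete_preimage_singleton (W.hom w)).to_subtype
    have : (⟨y, e⟩ : (W.hom ⁻¹' {W.hom w} : Set W.left)) ⤳ ⟨w, rfl⟩ :=
      Topology.IsInducing.subtypeVal.specializes_iff.1 hy
    exact congrArg Subtype.val this.eq

variable [IsLocallyNoetherian X] [Finite (Gen X)] [∀ η : Gen X, IsDomain (X.presheaf.stalk η.1)]

/-- A divisor germ at a point of the fibre vanishes if the divisor vanishes nearby. -/
theorem evGerm_eq_zero_of_nhd {x : X} {Ω : Type u} [Field Ω] [IsSepClosed Ω]
    (ξ : Spec (CommRingCat.of Ω) ⟶ Spec (CommRingCat.of (X.residueField x))) {W : X.Etale}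
    (s : (D (X := X)).obj.obj (op W)) (z : (Scheme.pointSmallEtale ξ).fiber.obj ((EtCoh.bc (ptI x)).obj W))
    (h : ∃ (V : X.Etale) (g : V ⟶ W) (v : V.left), g.left v = imgPt ξ z ∧ ((D (X := X)).obj.map g.op).hom s = 0) :
    evGerm ξ z s = 0 := by
  obtain ⟨V, g, v, hv, hzero⟩ := h
  obtain ⟨q, -, hq⟩ := Scheme.exists_preimage_of_isPullback (EtCoh.isPullback_bc_map (ptI x) g).flip v _ hv
  obtain ⟨z', hz', -⟩ := EtFound.exists_lift_point ((EtCoh.bc (ptI x)).map g) z q hq
  rw [← hz', ← evGerm_map, hzero, map_zero]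

theorem ev_eq_zero_of_nhd {W : X.Etale} (s : (D (X := X)).obj.obj (op W)) (x : X)
    (h : ∀ π : W.left, W.hom π = x →
      ∃ (V : X.Etale) (g : V ⟶ W) (v : V.left), g.left v = π ∧ ((D (X := X)).obj.map g.op).hom s = 0) :
    ((ev x).hom.app (op W)).hom s = 0 :=
  eq_zero_of_germs ((EtCoh.pull (ptI x)).obj (D (X := X))) _ fun _ _ _ ξ z =>
    evGerm_eq_zero_of_nhd ξ s z (h _ (hom_imgPt ξ z))

theorem exists_nhd_of_ev_eq_zero {W : X.Etale} (s : (D (X := X)).obj.obj (op W)) (π : W.left) (x : X)
    (hπ : W.hom π = x) (h : ((ev x).hom.app (op W)).hom s = 0) :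
    ∃ (V : X.Etale) (g : V ⟶ W) (v : V.left), g.left v = π ∧ ((D (X := X)).obj.map g.op).hom s = 0 := by
  obtain ⟨p, hp, -⟩ := Scheme.Pullback.exists_preimage_pullback (f := W.hom) (g := ptI x) π default
    (hπ.trans (Scheme.fromSpecResidueField_apply x _).symm)
  obtain ⟨Ω, _, _, ξ, z, hz⟩ := EtFound.exists_point_through ((EtCoh.bc (ptI x)).obj W) p
  have h2 := (EtFound.germ_unit_eq_iff (ptI x) ξ (D (X := X)) W z s 0).1
    (congrArg _ (h.trans (map_zero _).symm))
  obtain ⟨V, g, v, hv, hg⟩ := ((Scheme.pointSmallEtale (ξ ≫ ptI x)).toPresheafFiber_eq_iff' W _ _ _).1 h2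
  refine ⟨V, g, (v.left : Spec (CommRingCat.of Ω) ⟶ V.left) (default : Spec (CommRingCat.of Ω)), ?_,
    hg.trans (map_zero _)⟩
  have h3 := congrArg (fun q : (Scheme.pointSmallEtale (ξ ≫ ptI x)).fiber.obj W =>
    (q.left : Spec (CommRingCat.of Ω) ⟶ W.left) (default : Spec (CommRingCat.of Ω))) hv
  exact h3.trans ((Scheme.Hom.comp_apply _ _ _).trans ((congrArg _ (hz (default : Spec (CommRingCat.of Ω)))).trans hp))

variable [IsReduced X]

theorem mono_gmToJ_of_reduced : Mono (gmToJ (X := X)) := by
  have hinj : ∀ W : X.Etale, Function.Injective ((gmToJ (X := X)).hom.app (op W)).hom := fun W =>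
    (injective_iff_map_eq_zero _).2 fun u hu => by
      haveI : Etale W.hom := W.prop
      haveI : IsReduced W.left := @AlgSpDec.isReduced_of_etaleMor W.left X W.hom ‹_› ‹_›
      haveI : IsLocallyNoetherian W.left :=
        @LocallyOfFiniteType.isLocallyNoetherian W.left X W.hom inferInstance inferInstance
      refine uv_injective (P := W.left) (Units.ext (sub_eq_zero.1 ((basicOpen_eq_bot_iff _).1 ?_)))
      by_contra hne
      obtain ⟨w, hw⟩ := (Opens.ne_bot_iff_nonempty _).1 hne
      obtain ⟨ν, hνw, hmax⟩ : ∃ ν : W.left, ν ⤳ w ∧ ∀ y, y ⤳ ν → y = ν := by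
        obtain ⟨C, hC, hwC⟩ := exists_mem_irreducibleComponents_subset_of_isIrreducible {w} isIrreducible_singleton
        obtain ⟨c, hc⟩ := QuasiSober.sober hC.1 (isClosed_of_mem_irreducibleComponents C hC)
        refine ⟨c, hc.specializes (hwC rfl), fun y hy => (hy.antisymm ?_).eq⟩
        have := hC.2 (isIrreducible_singleton.closure (s := {y}))
          (hc.def.symm.le.trans (specializes_iff_closure_subset.1 hy))
        exact hc.specializes (this (subset_closure rfl))
      have hνb := hνw.mem_open (W.left.basicOpen _).isOpen hw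
      rw [SetLike.mem_coe, Scheme.mem_basicOpen W.left (U := ⊤) _ ν trivial] at hνb
      haveI : IsDomain (W.left.presheaf.stalk ν) := isDomain_stalk_of_maximal hmax
      obtain ⟨U, hνU, hU⟩ := H23.FinCondSch.exists_integral_nhd ν
      haveI : Nonempty U.toScheme := ⟨⟨ν, hνU⟩⟩
      let V : X.Etale := Scheme.Etale.mk (U.ι ≫ W.hom)
      let g : V ⟶ W := MorphismProperty.Over.homMk U.ι rfl trivial
      haveI : IsIntegral V.left := hU
      have h1 : ((gmToJ (X := X)).hom.app (op V)).hom (((EtCoh.Gm X).obj.map g.op).hom u) = 0 :=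
        (NatTrans.naturality_apply (gmToJ (X := X)).hom g.op u).trans
          ((congrArg ((J (X := X)).obj.map g.op).hom hu).trans (map_zero _))
      have h2 := rat_gm V (((EtCoh.Gm X).obj.map g.op).hom u)
      rw [h1, rat_zero] at h2
      haveI : Nonempty (⊤ : V.left.Opens) := ⟨⟨genericPoint V.left, trivial⟩⟩
      have h3 : g.left.appTop.hom ((uv (P := W.left) u : Γ(W.left, ⊤))) = 1 :=
        germ_injective_of_isIntegral V.left (genericPoint V.left) (U := ⊤) trivial (h2.symm.trans (map_one _).symm)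
      refine not_isUnit_zero (M₀ := W.left.presheaf.stalk ν) ?_
      have h4 : (g.left.stalkMap (⟨ν, hνU⟩ : U.toScheme)).hom (W.left.presheaf.germ ⊤ ν trivial
          ((uv (P := W.left) u : Γ(W.left, ⊤)) - (uv (P := W.left) (0 : EtCoh.ΓUnits.obj (op W.left)) : Γ(W.left, ⊤)))) = 0 := by
        refine (Scheme.Hom.germ_stalkMap_apply g.left ⊤ (⟨ν, hνU⟩ : U.toScheme) trivial _).trans ?_
        show V.left.presheaf.germ ⊤ _ trivial (g.left.appTop.hom _) = 0
        rw [uv_zero, Units.val_one, map_sub, map_one, h3, sub_self, map_zero]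
      rwa [show W.left.presheaf.germ ⊤ ν trivial _ = 0 from
        (ConcreteCategory.bijective_of_isIso ((U.ι).stalkMap (⟨ν, hνU⟩ : U.toScheme))).1 (h4.trans (map_zero _).symm)] at hνb
  have : ∀ U, Mono ((gmToJ (X := X)).hom.app U) := fun U => (AddCommGrpCat.mono_iff_injective _).2 (hinj U.unop)
  have := NatTrans.mono_of_mono_app (gmToJ (X := X)).hom
  exact (sheafToPresheaf _ _).mono_of_mono_map this

/-- Divisors vanish near maximal points. -/
theorem exists_nhd_of_maximal {W : X.Etale} (s : (D (X := X)).obj.obj (op W)) {ν : W.left}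
    (hν : ∀ y : W.left, y ⤳ ν → y = ν) :
    ∃ (V : X.Etale) (g : V ⟶ W) (v : V.left), g.left v = ν ∧ ((D (X := X)).obj.map g.op).hom s = 0 := by
  have hloc : Presheaf.IsLocallySurjective X.smallEtaleTopology (toD (X := X)).hom :=
    (Sheaf.isLocallySurjective_iff_epi' (J := X.smallEtaleTopology) AddCommGrpCat.{u + 1} (toD (X := X))).2 inferInstance
  obtain ⟨V, g, v, ⟨t, ht⟩, hv⟩ := (EtFound.mem_topology_iff _).1 (hloc.imageSieve_mem s) ν
  have hvmax : ∀ y : V.left, y ⤳ v → y = v := (maximal_iff V v).2 (by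
    have hcomp : V.hom v = W.hom ν := by
      rw [← hv]
      exact (congrArg (fun f : V.left ⟶ X => f v) (MorphismProperty.Over.w g)).symm.trans (Scheme.Hom.comp_apply g.left W.hom v)
    rw [hcomp]
    exact (maximal_iff W ν).1 hν)
  haveI : Etale V.hom := V.prop
  haveI : IsReduced V.left := @AlgSpDec.isReduced_of_etaleMor V.left X V.hom ‹_› ‹_›
  haveI : IsLocallyNoetherian V.left :=
    @LocallyOfFiniteType.isLocallyNoetherian V.left X V.hom inferInstance inferInstance
  haveI : IsDomain (V.left.presheaf.stalk v) := isDomain_stalk_of_maximal hvmax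
  obtain ⟨U, hvU, hU⟩ := H23.FinCondSch.exists_integral_nhd v
  let V' : X.Etale := Scheme.Etale.mk (U.ι ≫ V.hom)
  let g' : V' ⟶ V := MorphismProperty.Over.homMk U.ι rfl trivial
  haveI : IsIntegral V'.left := hU
  let v' : V'.left := (⟨v, hvU⟩ : U.toScheme)
  have hv' : v' = genericPoint V'.left := by
    have hs : g'.left (genericPoint V'.left) ⤳ v :=
      ((genericPoint_spec V'.left).specializes trivial : genericPoint V'.left ⤳ v').map g'.left.continuous
    exact Subtype.ext (hvmax _ hs).symm
  obtain ⟨V'', g'', v'', hv'', hzero⟩ := exists_nhd_of_unitAt (((J (X := X)).obj.map g'.op).hom t) v'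
    (hv' ▸ unitAt_generic (rat_ne_zero V' _))
  refine ⟨V'', (g'' ≫ g') ≫ g, v'', ?_, ?_⟩
  · exact (Scheme.Hom.comp_apply _ _ _).trans ((congrArg g.left ((Scheme.Hom.comp_apply _ _ _).trans
      (congrArg g'.left hv''))).trans hv)
  · refine Eq.trans ?_ hzero
    simp only [op_comp, Functor.map_comp]
    show ((D (X := X)).obj.map g''.op).hom (((D (X := X)).obj.map g'.op).hom (((D (X := X)).obj.map g.op).hom s)) = _
    exact congrArg ((D (X := X)).obj.map g''.op).hom ((congrArg ((D (X := X)).obj.map g'.op).hom ht.symm).trans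
      (NatTrans.naturality_apply (toD (X := X)).hom g'.op t).symm)

variable (hdim : topologicalKrullDim X ≤ 1)

include hdim in
/-- Finitely many points at which a divisor does not vanish. -/
theorem finite_bad {W : X.Etale} [IsAffine W.left] (s : (D (X := X)).obj.obj (op W)) :
    {w : W.left | ¬ ∃ (V : X.Etale) (g : V ⟶ W) (v : V.left),
      g.left v = w ∧ ((D (X := X)).obj.map g.op).hom s = 0}.Finite := by
  haveI : Etale W.hom := W.prop
  haveI : IsLocallyNoetherian W.left :=
    @LocallyOfFiniteType.isLocallyNoetherian W.left X W.hom inferInstance inferInstance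
  haveI : IsNoetherian W.left := { }
  set Z : Set W.left := {w : W.left | ¬ ∃ (V : X.Etale) (g : V ⟶ W) (v : V.left),
      g.left v = w ∧ ((D (X := X)).obj.map g.op).hom s = 0}
  have hZ : IsClosed Z := by
    rw [← isOpen_compl_iff, isOpen_iff_forall_mem_open]
    intro w hw
    obtain ⟨V, g, v, hv, hzero⟩ := not_not.1 hw
    haveI : Etale g.left := EtFound.etale_left g
    exact ⟨Set.range g.left, fun y ⟨v', hv'⟩ => not_not.2 ⟨V, g, v', hv', hzero⟩, g.left.isOpenMap.isOpen_range, v, hv⟩
  obtain ⟨S, hSf, hSc, hSi, hS⟩ := NoetherianSpace.exists_finite_set_isClosed_irreducible hZ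
  refine Set.Finite.subset
    (hSf.biUnion (t := fun C => {π : W.left | IsGenericPoint π C})
      fun C _ => Set.Subsingleton.finite fun a ha b hb => IsGenericPoint.eq ha hb) fun w hw => ?_
  obtain ⟨C, hC, hwC⟩ : ∃ C ∈ S, w ∈ C := Set.mem_sUnion.1 (hS.le hw)
  obtain ⟨c, hc⟩ := QuasiSober.sober (hSi C hC) (hSc C hC)
  have hcZ : c ∈ Z := hS.ge (Set.mem_sUnion.2 ⟨C, hC, hc.mem⟩)
  have hcng : ¬ ∀ y : X, y ⤳ W.hom c → y = W.hom c := fun h => hcZ (exists_nhd_of_maximal s ((maximal_iff W c).2 h))
  have e := eq_of_specializes_of_dim hdim hcng ((hc.specializes hwC).map W.hom.continuous)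
  haveI : DiscreteTopology (W.hom ⁻¹' {W.hom c} : Set W.left) :=
    (W.hom.isDiscrete_preimage_singleton (W.hom c)).to_subtype
  have : (⟨c, rfl⟩ : (W.hom ⁻¹' {W.hom c} : Set W.left)) ⤳ ⟨w, e⟩ :=
    Topology.IsInducing.subtypeVal.specializes_iff.1 (hc.specializes hwC)
  obtain rfl : c = w := congrArg Subtype.val this.eq
  exact Set.mem_biUnion hC hc

include hdim in
theorem isIso_suppDesc_of_dim : IsIso (colimit.desc (suppFunctor (X := X)) suppCocone) := by
  classical
  refine isIso_desc_of_exhaust _ _ (fun i U => SiteBase.sheaf_app_injective (kernel.ι (evOut i.down)) U)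
    fun U s w => ?_
  obtain ⟨V, g, v, hA, hv⟩ := EtLC12.RpushTorsion.exists_affine_nhd w
  let F : Finset (H1 X) := (finite_bad hdim (((D (X := X)).obj.map g.op).hom s)).toFinset.attach.image fun π =>
    ⟨V.hom π.1, isH1X_of_dim hdim fun h => absurd
      (exists_nhd_of_maximal _ ((maximal_iff V π.1).2 h)) ((Set.Finite.mem_toFinset _).1 π.2)⟩
  obtain ⟨e, he⟩ := exists_supp F (((D (X := X)).obj.map g.op).hom s) fun x hx => by
    refine ev_eq_zero_of_nhd _ x.1 fun π hπ => ?_
    by_contra hnz
    exact hx (Finset.mem_image.2 ⟨⟨π, (Set.Finite.mem_toFinset _).2 hnz⟩, Finset.mem_attach _ _, Subtype.ext hπ⟩)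
  exact ⟨V, g, v, ULift.up F, e, hv, he⟩

include hdim in
theorem isIso_toPts_of_dim (F : Finset (H1 X)) : IsIso (toPts F) := by
  classical
  have htot : (∑ x : F, biproduct.π (ptsFam F) x ≫ biproduct.ι (ptsFam F) x) = 𝟙 (Pts F) := by
    refine biproduct.hom_ext _ _ fun k => ?_
    simp [Preadditive.sum_comp, biproduct.ι_π, comp_dite, Pts]
  haveI : Mono (toPts F) := by
    have hinj : ∀ W : X.Etale, Function.Injective ((toPts F).hom.app (op W)).hom := fun W =>
      (injective_iff_map_eq_zero _).2 fun z hz => by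
        apply SiteBase.sheaf_app_injective (kernel.ι (evOut F)) W
        refine Eq.trans (eq_zero_of_local _ _ fun w => ?_) (map_zero ((kernel.ι (evOut F)).hom.app (op W)).hom).symm
        by_cases hw : ∀ y : W.left, y ⤳ w → y = w
        · exact exists_nhd_of_maximal _ hw
        let x : H1 X := ⟨W.hom w, isH1X_of_dim hdim fun h => hw ((maximal_iff W w).2 h)⟩
        refine exists_nhd_of_ev_eq_zero _ w x.1 rfl ?_
        by_cases hx : x ∈ F
        · have h := congrArg ((biproduct.π (ptsFam F) ⟨x, hx⟩).hom.app (op W)).hom hz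
          rw [map_zero] at h
          refine Eq.trans ?_ h
          show ((kernel.ι (evOut F) ≫ ev x.1).hom.app (op W)).hom z =
            ((toPts F ≫ biproduct.π (ptsFam F) (⟨x, hx⟩ : F)).hom.app (op W)).hom z
          rw [toPts, Category.assoc, biproduct.lift_π]
          rfl
        · exact congrArg (fun f : Supp F ⟶ _ => (f.hom.app (op W)).hom z) (ι_ev_eq_zero F x hx)
    have : ∀ U, Mono ((toPts F).hom.app U) := fun U => (AddCommGrpCat.mono_iff_injective _).2 (hinj U.unop)
    have := NatTrans.mono_of_mono_app (toPts F).hom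
    exact (sheafToPresheaf _ _).mono_of_mono_map this
  haveI : Epi (toPts F) := by
    refine (EtFound.epi_iff_stalks _).2 fun Ω _ _ ξ b => ?_
    haveI : PreservesBinaryBiproducts (EtCoh.stalk ξ) := preservesBinaryBiproducts_of_preservesBinaryProducts _
    haveI : (EtCoh.stalk ξ).Additive := Functor.additive_of_preservesBinaryBiproducts _
    let pr : ∀ x : F, (EtCoh.stalk ξ).obj (Pts F) → (EtCoh.stalk ξ).obj (ptsFam F x) := fun x =>
      ((EtCoh.stalk ξ).map (biproduct.π (ptsFam F) x)).hom
    suffices h : ∃ a, ∀ x : F, pr x (((EtCoh.stalk ξ).map (toPts F)).hom a) = pr x b by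
      obtain ⟨a, ha⟩ := h
      refine ⟨a, ?_⟩
      let Φ : (EtCoh.stalk ξ).obj (Pts F) → (Pts F ⟶ Pts F) →+ (EtCoh.stalk ξ).obj (Pts F) := fun e =>
        AddMonoidHom.mk' (fun f => ((EtCoh.stalk ξ).map f).hom e) (fun f g => by rw [Functor.map_add]; rfl)
      have key : ∀ e, e = ∑ x : F, ((EtCoh.stalk ξ).map (biproduct.ι (ptsFam F) x)).hom (pr x e) := fun e => by
        have h := congrArg (Φ e) htot
        rw [map_sum] at h
        refine (ConcreteCategory.congr_hom ((EtCoh.stalk ξ).map_id (Pts F)) e).symm.trans (h.symm.trans ?_)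
        refine Finset.sum_congr rfl fun x _ => ?_
        show ((EtCoh.stalk ξ).map (_ ≫ _)).hom e = _
        rw [Functor.map_comp]
        rfl
      exact (key _).trans ((Finset.sum_congr rfl fun x _ => congrArg _ (ha x)).trans (key b).symm)
    let x₀ : X := ξ (default : Spec (CommRingCat.of Ω))
    have hzero : ∀ x : F, x.1.1 ≠ x₀ → Subsingleton ((EtCoh.stalk ξ).obj (ptsFam F x)) := fun x hne => by
      haveI := isClosedImmersion_ptI hdim x.1
      refine AddCommGrpCat.subsingleton_of_isZero (EtFound.isZero_stalk_push_closed (ptI x.1.1) _ ξ ?_)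
      rw [show Set.range (ptI x.1.1).base = {x.1.1} from Scheme.range_fromSpecResidueField x.1.1]
      exact fun h => hne h.symm
    by_cases hex : ∃ x : F, x.1.1 = x₀
    swap
    · exact ⟨0, fun x => (hzero x fun e => hex ⟨x, e⟩).elim _ _⟩
    obtain ⟨x, hx⟩ := hex
    haveI := isClosedImmersion_ptI hdim x.1
    haveI := EtFound.isIso_stalk_unit_closed (ptI x.1.1) (D (X := X)) ξ (by
      rw [show Set.range (ptI x.1.1).base = {x.1.1} from Scheme.range_fromSpecResidueField x.1.1]
      exact hx.symm)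
    obtain ⟨d, hd⟩ := (ConcreteCategory.bijective_of_isIso
      ((EtCoh.stalk ξ).map ((EtCoh.pullPushAdj (ptI x.1.1)).unit.app (D (X := X))))).2 (pr x b)
    obtain ⟨W₀, z₀, d₀, rfl⟩ := (Scheme.pointSmallEtale ξ).toPresheafFiber_jointly_surjective d
    obtain ⟨W, g₀, w, hA, hw⟩ := EtLC12.RpushTorsion.exists_affine_nhd
      ((z₀.left : Spec (CommRingCat.of Ω) ⟶ W₀.left) (default : Spec (CommRingCat.of Ω)))
    obtain ⟨z, hz, hzw⟩ := EtFound.exists_lift_point g₀ z₀ w hw
    let d₁ := ((D (X := X)).obj.map g₀.op).hom d₀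
    haveI := hA
    let B := (finite_bad hdim d₁).toFinset.filter fun π => ¬ π = w
    have hB : IsClosed (B : Set W.left) := by
      rw [← Set.biUnion_of_singleton (B : Set W.left)]
      refine (Finset.finite_toSet B).isClosed_biUnion fun π hπ => ?_
      have hbad := (Set.Finite.mem_toFinset _).1 (Finset.mem_filter.1 hπ).1
      have hng : ¬ ∀ y : X, y ⤳ W.hom π → y = W.hom π := fun h => hbad (exists_nhd_of_maximal _ ((maximal_iff W π).2 h))
      refine closure_eq_iff_isClosed.1 (Set.Subset.antisymm (fun y hy => ?_) subset_closure)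
      have hs := specializes_iff_mem_closure.2 hy
      have e := eq_of_specializes_of_dim hdim hng (hs.map W.hom.continuous)
      haveI : Etale W.hom := W.prop
      haveI : DiscreteTopology (W.hom ⁻¹' {W.hom π} : Set W.left) :=
        (W.hom.isDiscrete_preimage_singleton (W.hom π)).to_subtype
      have : (⟨π, rfl⟩ : (W.hom ⁻¹' {W.hom π} : Set W.left)) ⤳ ⟨y, e⟩ :=
        Topology.IsInducing.subtypeVal.specializes_iff.1 hs
      exact (congrArg Subtype.val this.eq).symm
    let O : W.left.Opens := ⟨(B : Set W.left)ᶜ, hB.isOpen_compl⟩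
    haveI : Etale W.hom := W.prop
    let V : X.Etale := Scheme.Etale.mk (O.ι ≫ W.hom)
    let g : V ⟶ W := MorphismProperty.Over.homMk O.ι rfl trivial
    have hwO : w ∈ O := fun h => (Finset.mem_filter.1 h).2 rfl
    obtain ⟨zV, hzV, -⟩ := EtFound.exists_lift_point g z (⟨w, hwO⟩ : O.toScheme) hzw.symm
    have hwx : W.hom w = x.1.1 := by
      rw [hx, ← hzw]
      exact (Scheme.Hom.comp_apply _ _ _).symm.trans
        (congrArg (fun f : Spec (CommRingCat.of Ω) ⟶ X => f (default : Spec (CommRingCat.of Ω)))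
          (CategoryTheory.Over.w z))
    obtain ⟨e, he⟩ := exists_supp F (((D (X := X)).obj.map g.op).hom d₁) fun x' hx' => by
      refine ev_eq_zero_of_nhd _ x'.1 fun π hπ => ?_
      have hgood : ¬ g.left π ∈ {w : W.left | ¬ ∃ (V : X.Etale) (g : V ⟶ W) (v : V.left),
          g.left v = w ∧ ((D (X := X)).obj.map g.op).hom d₁ = 0} := fun hb => by
        refine π.2 (Finset.mem_filter.2 ⟨(Set.Finite.mem_toFinset _).2 hb, fun e => hx' ?_⟩)
        have : x' = x.1 := Subtype.ext (hπ.symm.trans ((Scheme.Hom.comp_apply _ _ _).trans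
          ((congrArg W.hom e).trans hwx)))
        exact this ▸ x.2
      obtain ⟨V₁, g₁, v₁, hv₁, hz₁⟩ := not_not.1 hgood
      obtain ⟨q, hq1, hq2⟩ := Scheme.Pullback.exists_preimage_pullback (f := g.left) (g := g₁.left) π v₁ hv₁.symm
      haveI : Etale g₁.left := EtFound.etale_left g₁
      haveI : Etale V.hom := V.prop
      let P : X.Etale := Scheme.Etale.mk (pullback.fst g.left g₁.left ≫ V.hom)
      let a : P ⟶ V := MorphismProperty.Over.homMk (pullback.fst g.left g₁.left) rfl trivial
      let b : P ⟶ V₁ := MorphismProperty.Over.homMk (pullback.snd g.left g₁.left) (by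
        show pullback.snd g.left g₁.left ≫ V₁.hom = pullback.fst g.left g₁.left ≫ V.hom
        rw [← MorphismProperty.Over.w g₁, ← MorphismProperty.Over.w g, ← Category.assoc, ← Category.assoc,
          pullback.condition]) trivial
      have hab : a ≫ g = b ≫ g₁ := MorphismProperty.Over.Hom.ext pullback.condition
      refine ⟨P, a, q, hq1, ?_⟩
      show ((D (X := X)).obj.map g.op ≫ (D (X := X)).obj.map a.op).hom d₁ = 0
      rw [← Functor.map_comp, ← op_comp, hab, op_comp, Functor.map_comp]
      exact (congrArg ((D (X := X)).obj.map b.op).hom hz₁).trans (map_zero _)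
    refine ⟨((Scheme.pointSmallEtale ξ).toPresheafFiber V zV (Supp F).obj).hom e, fun y => ?_⟩
    by_cases hy : y.1.1 = x₀
    swap
    · exact (hzero y hy).elim _ _
    obtain rfl : y = x := Subtype.ext (Subtype.ext (hy.trans hx.symm))
    refine ((ConcreteCategory.congr_hom ((EtCoh.stalk ξ).map_comp (toPts F) (biproduct.π (ptsFam F) y)) _).symm).trans ?_
    rw [toPts, Category.assoc, biproduct.lift_π, Functor.map_comp]
    refine (congrArg ((EtCoh.stalk ξ).map (ev y.1.1)).hom
      ((Scheme.pointSmallEtale ξ).toPresheafFiber_naturality_apply (kernel.ι (evOut F)).hom V zV e)).trans ?_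
    refine Eq.trans ?_ hd
    refine congrArg ((EtCoh.stalk ξ).map (ev y.1.1)).hom ?_
    rw [he, (Scheme.pointSmallEtale ξ).toPresheafFiber_w_apply, hzV, (Scheme.pointSmallEtale ξ).toPresheafFiber_w_apply, hz]
    rfl
  exact isIso_of_mono_of_epi _

end Groth.Agent.GmDiv
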