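import Groth.Agent.GmDiv.Rat
import Groth.Agent.SiteBase.AbSecExact
import Groth.Agent.H23.FinCondSch
import Groth.Agent.EtFound.PullGerm
import Groth.Agent.EtFound.Detect
import Groth.Agent.EtFound.Germ
import Groth.Agent.EtFound.PullStalk

/-!
# The sheaf of divisors on the small étale site
-/

set_option autoImplicit false
set_option linter.style.haveILetI false
set_option linter.unusedSectionVars false
set_option backward.isDefEq.respectTransparency false
set_option backward.isDefEq.respectTransparency.types false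

universe u

open CategoryTheory CategoryTheory.Limits AlgebraicGeometry Opposite TopologicalSpace

noncomputable section

namespace Groth.Agent.GmDiv

variable {X : Scheme.{u}}

/-- Sections vanishing locally vanish. -/
theorem eq_zero_of_local (F : EtCoh.Ab X) {W : X.Etale} (s : F.obj.obj (op W))
    (h : ∀ w : W.left, ∃ (V : X.Etale) (g : V ⟶ W) (v : V.left), g.left v = w ∧ (F.obj.map g.op).hom s = 0) :
    s = 0 := by
  haveI := SiteBase.hasSheafCompose_forget.{u + 1} X.smallEtaleTopology
  have hR : Presheaf.equalizerSieve (X := op W) s 0 ∈ X.smallEtaleTopology W := by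
    refine (EtFound.mem_topology_iff _).2 fun w => ?_
    obtain ⟨V, g, v, hv, hz⟩ := h w
    exact ⟨V, g, v, hz.trans (map_zero (F.obj.map g.op).hom).symm, hv⟩
  exact (((isSheaf_iff_isSheaf_of_type _ _).1
    ((sheafCompose X.smallEtaleTopology (forget AddCommGrpCat.{u + 1})).obj F).property).isSeparated _ hR).ext
      fun V g hg => hg

section Reps

variable [IsLocallyNoetherian X] (hfact : ∀ (U : X.Etale) (u : U.left), IsDomain (U.left.presheaf.stalk u))

include hfact in
/-- Every point of an étale scheme has an integral affine étale neighbourhood. -/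
theorem exists_integral_nhd (W : X.Etale) (w : W.left) :
    ∃ (W' : X.Etale) (g : W' ⟶ W) (w' : W'.left),
      g.left w' = w ∧ IsIntegral W'.left ∧ IsAffine W'.left ∧ IsOpenImmersion g.left := by
  haveI : Etale W.hom := W.prop
  haveI : IsLocallyNoetherian W.left := @LocallyOfFiniteType.isLocallyNoetherian W.left X W.hom inferInstance inferInstance
  haveI := hfact W w
  obtain ⟨U, hw, hU⟩ := H23.FinCondSch.exists_integral_nhd w
  obtain ⟨O, hO, hx, hOU⟩ := exists_isAffineOpen_mem_and_subset hw
  haveI : Nonempty U.toScheme := ⟨⟨w, hw⟩⟩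
  haveI : Nonempty O.toScheme := ⟨⟨w, hx⟩⟩
  haveI : IsIntegral O.toScheme := isIntegral_of_isOpenImmersion (W.left.homOfLE hOU)
  exact ⟨Scheme.Etale.mk (O.ι ≫ W.hom), MorphismProperty.Over.homMk O.ι rfl trivial, (⟨w, hx⟩ : O.toScheme),
    rfl, ‹IsIntegral O.toScheme›, hO, inferInstanceAs (IsOpenImmersion O.ι)⟩

variable [Finite (Gen X)]

/-- The cokernel of the embedding of units into rational units. -/
def D : EtCoh.Ab X := cokernel (gmToJ (X := X))

/-- The quotient map. -/
def toD : J (X := X) ⟶ D (X := X) := cokernel.π _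

instance : Epi (toD (X := X)) := inferInstanceAs (Epi (cokernel.π _))

include hfact in
theorem exists_rep {W : X.Etale} (s : (D (X := X)).obj.obj (op W)) (w : W.left) :
    ∃ (W' : X.Etale) (g : W' ⟶ W) (w' : W'.left) (t : (J (X := X)).obj.obj (op W')),
      g.left w' = w ∧ IsIntegral W'.left ∧ IsAffine W'.left ∧
        (toD.hom.app (op W')).hom t = ((D (X := X)).obj.map g.op).hom s := by
  have hloc : Presheaf.IsLocallySurjective X.smallEtaleTopology (toD (X := X)).hom :=
    (Sheaf.isLocallySurjective_iff_epi' (J := X.smallEtaleTopology) AddCommGrpCat.{u + 1} (toD (X := X))).2 inferInstance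
  obtain ⟨V, g, v, ⟨t, ht⟩, hv⟩ := (EtFound.mem_topology_iff _).1 (hloc.imageSieve_mem s) w
  obtain ⟨W', g', w', hw', hI, hA, -⟩ := exists_integral_nhd hfact V v
  refine ⟨W', g' ≫ g, w', ((J (X := X)).obj.map g'.op).hom t, ?_, hI, hA, ?_⟩
  · exact (Scheme.Hom.comp_apply _ _ _).trans ((congrArg g.left hw').trans hv)
  · refine (NatTrans.naturality_apply (toD (X := X)).hom g'.op t).trans ?_
    rw [op_comp, Functor.map_comp]
    exact congrArg ((D (X := X)).obj.map g'.op).hom ht

variable [∀ η : Gen X, IsDomain (X.presheaf.stalk η.1)]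

include hfact in
theorem mono_gmToJ : Mono (gmToJ (X := X)) := by
  have hinj : ∀ W : X.Etale, Function.Injective ((gmToJ (X := X)).hom.app (op W)).hom := fun W =>
    (injective_iff_map_eq_zero _).2 fun u hu => eq_zero_of_local _ u fun w => by
      obtain ⟨W', g, w', hw', hI, -, -⟩ := exists_integral_nhd hfact W w
      refine ⟨W', g, w', hw', ?_⟩
      have h1 : ((gmToJ (X := X)).hom.app (op W')).hom (((EtCoh.Gm X).obj.map g.op).hom u) = 0 :=
        (NatTrans.naturality_apply (gmToJ (X := X)).hom g.op u).trans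
          ((congrArg ((J (X := X)).obj.map g.op).hom hu).trans (map_zero _))
      have h2 := rat_gm W' (((EtCoh.Gm X).obj.map g.op).hom u)
      rw [h1, rat_zero] at h2
      haveI : Nonempty (⊤ : W'.left.Opens) := ⟨⟨genericPoint W'.left, trivial⟩⟩
      refine uv_injective (P := W'.left) (Units.ext (germ_injective_of_isIntegral W'.left (genericPoint W'.left) (U := ⊤) trivial ?_))
      exact h2.symm.trans (map_one _).symm
  have : ∀ U, Mono ((gmToJ (X := X)).hom.app U) := fun U => (AddCommGrpCat.mono_iff_injective _).2 (hinj U.unop)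
  have := NatTrans.mono_of_mono_app (gmToJ (X := X)).hom
  exact (sheafToPresheaf _ _).mono_of_mono_map this

theorem toD_gm (W : X.Etale) (u : (EtCoh.Gm X).obj.obj (op W)) :
    (toD.hom.app (op W)).hom ((gmToJ.hom.app (op W)).hom u) = 0 :=
  ConcreteCategory.congr_hom (congrArg (fun f => f.hom.app (op W)) (cokernel.condition (gmToJ (X := X)))) u

include hfact in
theorem exists_unit_of_toD_eq_zero {W : X.Etale} (t : (J (X := X)).obj.obj (op W))
    (ht : (toD.hom.app (op W)).hom t = 0) : ∃ u, (gmToJ.hom.app (op W)).hom u = t := by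
  haveI := mono_gmToJ hfact
  let T := ShortComplex.mk (gmToJ (X := X)) toD (cokernel.condition _)
  have h : T.Exact := ShortComplex.exact_of_g_is_cokernel _ (cokernelIsCokernel _)
  exact (ShortComplex.ab_exact_iff _).1 (h.map_of_mono_of_preservesKernel
    (sheafToPresheaf X.smallEtaleTopology AddCommGrpCat.{u + 1} ⋙ (evaluation _ AddCommGrpCat.{u + 1}).obj (op W))
    ‹Mono gmToJ› inferInstance) t ht

include hfact in
theorem unitAt_of_toD_eq_zero {W : X.Etale} [IsIntegral W.left] (t : (J (X := X)).obj.obj (op W))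
    (ht : (toD.hom.app (op W)).hom t = 0) (w : W.left) : UnitAt (rat W t) w := by
  obtain ⟨u, rfl⟩ := exists_unit_of_toD_eq_zero hfact t ht
  rw [rat_gm]
  exact ⟨Units.map (W.left.presheaf.germ ⊤ w trivial).hom.toMonoidHom (uv (P := W.left) u), germ_generic (U := ⊤) trivial _⟩

/-- A rational function which is a unit at a point gives a divisor vanishing nearby. -/
theorem exists_nhd_of_unitAt {W : X.Etale} [IsIntegral W.left] (t : (J (X := X)).obj.obj (op W)) (w : W.left)
    (h : UnitAt (rat W t) w) :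
    ∃ (V : X.Etale) (g : V ⟶ W) (v : V.left), g.left v = w ∧
      ((D (X := X)).obj.map g.op).hom ((toD.hom.app (op W)).hom t) = 0 := by
  haveI : Etale W.hom := W.prop
  obtain ⟨U, hw, a, ha⟩ := h.exists_section
  haveI : Nonempty U.toScheme := ⟨⟨w, hw⟩⟩
  haveI : IsIntegral U.toScheme := isIntegral_of_isOpenImmersion U.ι
  let V : X.Etale := Scheme.Etale.mk (U.ι ≫ W.hom)
  let g : V ⟶ W := MorphismProperty.Over.homMk U.ι rfl trivial
  haveI : Etale g.left := inferInstanceAs (Etale U.ι)
  haveI : IsIntegral V.left := ‹IsIntegral U.toScheme›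
  refine ⟨V, g, (⟨w, hw⟩ : U.toScheme), rfl, ?_⟩
  obtain ⟨u, hu⟩ := uv_surjective (P := V.left) (Units.map (g.left.appLE U ⊤ (fun x _ => x.2)).hom.toMonoidHom a)
  have key : ((J (X := X)).obj.map g.op).hom t = (gmToJ.hom.app (op V)).hom u := rat_injective V (by
    rw [rat_map, rat_gm, hu]
    refine Eq.trans ?_ (germ_generic (W := V.left) (U := ⊤) (w := (⟨w, hw⟩ : U.toScheme)) trivial _)
    rw [← ha]
    refine (funMap_algebraMap g.left (⟨w, hw⟩ : U.toScheme) _).trans (congrArg _ ?_)
    refine (Scheme.Hom.germ_stalkMap_apply g.left U (⟨w, hw⟩ : U.toScheme) hw _).trans ?_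
    exact (V.left.presheaf.germ_res_apply (U := (⊤ : V.left.Opens)) (V := g.left ⁻¹ᵁ U) (homOfLE fun x _ => x.2) (⟨w, hw⟩ : U.toScheme) trivial _).symm)
  refine (NatTrans.naturality_apply (toD (X := X)).hom g.op t).symm.trans ?_
  rw [key]
  exact toD_gm V u

/-- The restriction to a point. -/
def ev (x : X) : D (X := X) ⟶ (EtCoh.push (ptI x)).obj ((EtCoh.pull (ptI x)).obj (D (X := X))) :=
  (EtCoh.pullPushAdj (ptI x)).unit.app _

include hfact in
theorem unitAt_of_ev_eq_zero {W : X.Etale} [IsIntegral W.left] (t : (J (X := X)).obj.obj (op W)) (π : W.left)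
    (x : X) (hπ : W.hom π = x)
    (h : ((ev x).hom.app (op W)).hom ((toD.hom.app (op W)).hom t) = 0) : UnitAt (rat W t) π := by
  obtain ⟨p, hp, -⟩ := Scheme.Pullback.exists_preimage_pullback (f := W.hom) (g := ptI x) π default
    (hπ.trans (Scheme.fromSpecResidueField_apply x _).symm)
  obtain ⟨Ω, _, _, ξ, z, hz⟩ := EtFound.exists_point_through ((EtCoh.bc (ptI x)).obj W) p
  have h2 := (EtFound.germ_unit_eq_iff (ptI x) ξ (D (X := X)) W z ((toD.hom.app (op W)).hom t) 0).1
    (congrArg _ (h.trans (map_zero _).symm))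
  obtain ⟨V, g, v, hv, hg⟩ := ((Scheme.pointSmallEtale (ξ ≫ ptI x)).toPresheafFiber_eq_iff' W _ _ _).1 h2
  have hgv : g.left ((v.left : Spec (CommRingCat.of Ω) ⟶ V.left) (default : Spec (CommRingCat.of Ω))) = π := by
    have h3 := congrArg (fun q : (Scheme.pointSmallEtale (ξ ≫ ptI x)).fiber.obj W =>
      (q.left : Spec (CommRingCat.of Ω) ⟶ W.left) (default : Spec (CommRingCat.of Ω))) hv
    exact h3.trans ((Scheme.Hom.comp_apply _ _ _).trans ((congrArg _ (hz (default : Spec (CommRingCat.of Ω)))).trans hp))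
  obtain ⟨V', g', v', hv', hI, -, -⟩ := exists_integral_nhd hfact V ((v.left : Spec (CommRingCat.of Ω) ⟶ V.left) (default : Spec (CommRingCat.of Ω)))
  haveI : Etale (g' ≫ g).left := EtFound.etale_left _
  have hzero : (toD.hom.app (op V')).hom (((J (X := X)).obj.map (g' ≫ g).op).hom t) = 0 := by
    refine (NatTrans.naturality_apply (toD (X := X)).hom (g' ≫ g).op t).trans ?_
    rw [op_comp, Functor.map_comp]
    exact (congrArg ((D (X := X)).obj.map g'.op).hom (hg.trans (map_zero _))).trans (map_zero _)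
  have hu := unitAt_of_toD_eq_zero hfact _ hzero v'
  rw [rat_map] at hu
  have := unitAt_of_flat (g' ≫ g).left v' (funMap (g' ≫ g).left).hom (funMap_algebraMap (g' ≫ g).left v') hu
  rwa [show (g' ≫ g).left v' = π from (Scheme.Hom.comp_apply _ _ _).trans ((congrArg g.left hv').trans hgv)] at this

theorem ev_eq_zero {W : X.Etale} [IsIntegral W.left] (t : (J (X := X)).obj.obj (op W)) (x : X)
    (h : ∀ π : W.left, W.hom π = x → UnitAt (rat W t) π) :
    ((ev x).hom.app (op W)).hom ((toD.hom.app (op W)).hom t) = 0 := by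
  refine eq_zero_of_local ((EtCoh.pull (ptI x)).obj (D (X := X)))
    (W := (EtCoh.bc (ptI x)).obj W) _ fun p => ?_
  let π : W.left := pullback.fst W.hom (ptI x) p
  have hπ : W.hom π = x :=
    (Scheme.Hom.comp_apply (pullback.fst W.hom (ptI x)) W.hom p).symm.trans
      ((congrArg (fun f : (pullback W.hom (ptI x) : Scheme.{u}) ⟶ X => f p) pullback.condition).trans
        ((Scheme.Hom.comp_apply (pullback.snd W.hom (ptI x)) (ptI x) p).trans (Scheme.fromSpecResidueField_apply x _)))
  obtain ⟨V, g, v, hv, hzero⟩ := exists_nhd_of_unitAt t π (h π hπ)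
  obtain ⟨q, -, hq⟩ := Scheme.exists_preimage_of_isPullback (EtCoh.isPullback_bc_map (ptI x) g).flip v p hv
  refine ⟨(EtCoh.bc (ptI x)).obj V, (EtCoh.bc (ptI x)).map g, q, hq, ?_⟩
  exact (NatTrans.naturality_apply (ev (X := X) x).hom g.op _).symm.trans
    ((congrArg ((ev (X := X) x).hom.app (op V)).hom hzero).trans (map_zero _))

end Reps

end Groth.Agent.GmDiv
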