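import Groth.Agent.GmDiv.Local

/-!
# Divisors supported at a single height one point
-/

set_option autoImplicit false
set_option linter.style.haveILetI false
set_option linter.unusedSectionVars false
set_option backward.isDefEq.respectTransparency false
set_option backward.isDefEq.respectTransparency.types false

universe u

open CategoryTheory CategoryTheory.Limits AlgebraicGeometry Opposite TopologicalSpace

noncomputable section

namespace Groth.Agent.GmDiv

variable {X : Scheme.{u}} [IsLocallyNoetherian X] [Finite (Gen X)] [∀ η : Gen X, IsDomain (X.presheaf.stalk η.1)]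
  (hfact : ∀ (U : X.Etale) (u : U.left), IsDomain (U.left.presheaf.stalk u) ∧
    UniqueFactorizationMonoid (U.left.presheaf.stalk u))

theorem unitAt_sum {W : X.Etale} [IsIntegral W.left] {ι : Type*} (A : Finset ι)
    (t : ι → (J (X := X)).obj.obj (op W)) {π : W.left} (h : ∀ i ∈ A, UnitAt (rat W (t i)) π) :
    UnitAt (rat W (∑ i ∈ A, t i)) π := by
  classical
  induction A using Finset.induction_on with
  | empty =>
    rw [Finset.sum_empty, rat_zero]
    exact UnitAt.one π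
  | insert a A ha ih =>
    rw [Finset.sum_insert ha, rat_add]
    exact (h a (Finset.mem_insert_self a A)).mul (ih fun i hi => h i (Finset.mem_insert_of_mem hi))

include hfact in
/-- Locally a multiple of any fibre section at a height one point comes from a divisor supported at that point. -/
theorem exists_divisor (x : H1 X) {W : X.Etale}
    (c : ((EtCoh.pull (ptI x.1)).obj (D (X := X))).obj.obj (op ((EtCoh.bc (ptI x.1)).obj W))) (w : W.left) :
    ∃ (V : X.Etale) (g : V ⟶ W) (v : V.left) (N : ℕ) (d : (D (X := X)).obj.obj (op V)), g.left v = w ∧ 0 < N ∧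
      ((ev x.1).hom.app (op V)).hom d =
        N • (((EtCoh.pull (ptI x.1)).obj (D (X := X))).obj.map ((EtCoh.bc (ptI x.1)).map g).op).hom c ∧
      ∀ x' : H1 X, x' ≠ x → ((ev x'.1).hom.app (op V)).hom d = 0 := by
  classical
  obtain ⟨W₀, g₀, w₀, hw₀, hI, hA, -⟩ := exists_integral_nhd (fun U u => (hfact U u).1) W w
  haveI : Etale W₀.hom := W₀.prop
  haveI : IsLocallyNoetherian W₀.left :=
    @LocallyOfFiniteType.isLocallyNoetherian W₀.left X W₀.hom inferInstance inferInstance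
  haveI : IsNoetherian W₀.left := { }
  haveI : NoetherianSpace W₀.left := inferInstance
  have hfib : {π : W₀.left | W₀.hom π = x.1}.Finite := by
    haveI : DiscreteTopology {π : W₀.left | W₀.hom π = x.1} := (W₀.hom.isDiscrete_preimage_singleton x.1).to_subtype
    haveI := NoetherianSpace.finite (α := {π : W₀.left | W₀.hom π = x.1})
    exact Set.toFinite _
  let Fw : Set W₀.left := {π | W₀.hom π = x.1 ∧ π ⤳ w₀}
  haveI : Finite Fw := (hfib.subset fun π h => h.1).to_subtype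
  haveI := Fintype.ofFinite Fw
  have h1 : ∀ π : Fw, IsH1 (π : W₀.left) := fun π => (isH1_iff W₀ π.1).2 (π.2.1.symm ▸ x.2)
  haveI : UniqueFactorizationMonoid (W₀.left.presheaf.stalk w₀) := (hfact W₀ w₀).2
  choose q hq0 hq hqu using fun π : Fw => exists_equation π.2.2 (h1 π)
  choose tq htq using fun π : Fw => rat_surjective W₀ (f := algebraMap _ W₀.left.functionField (q π))
    ((map_ne_zero_iff _ (IsFractionRing.injective _ _)).2 (hq0 π))
  let Fi := (EtCoh.pull (ptI x.1)).obj (D (X := X))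
  let c₀ := (Fi.obj.map ((EtCoh.bc (ptI x.1)).map g₀).op).hom c
  have hgerm : ∀ π : Fw, ∃ (k : ℕ) (n : ℤ) (p : ((EtCoh.bc (ptI x.1)).obj W₀).left)
      (Y : (Spec (CommRingCat.of (X.residueField x.1))).Etale) (h : Y ⟶ (EtCoh.bc (ptI x.1)).obj W₀) (y : Y.left),
      0 < k ∧ pullback.fst W₀.hom (ptI x.1) p = π.1 ∧ h.left y = p ∧
      (Fi.obj.map h.op).hom (k • c₀) =
        (Fi.obj.map h.op).hom (n • ((ev x.1).hom.app (op W₀)).hom ((toD.hom.app (op W₀)).hom (tq π))) := fun π => by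
    obtain ⟨p, hp, -⟩ := Scheme.Pullback.exists_preimage_pullback (f := W₀.hom) (g := ptI x.1) π.1 default
      (π.2.1.trans (Scheme.fromSpecResidueField_apply x.1 _).symm)
    obtain ⟨Ω, _, _, ξ, z, hz⟩ := EtFound.exists_point_through ((EtCoh.bc (ptI x.1)).obj W₀) p
    have himg : imgPt ξ z = π.1 := (congrArg _ (hz _)).trans hp
    have hsp : imgPt ξ z ⤳ w₀ := himg ▸ π.2.2
    have hnu : ¬ IsUnit ((W₀.left.presheaf.stalkSpecializes hsp).hom (q π)) := fun hu => hq π (by
      have := hu.map (W₀.left.presheaf.stalkSpecializes (specializes_of_eq himg.symm)).hom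
      rwa [← RingHom.comp_apply, ← CommRingCat.hom_comp, TopCat.Presheaf.stalkSpecializes_comp] at this)
    obtain ⟨k, n, hk, he⟩ := exists_multiple ξ hfact x.2 z hsp (q π) (hq0 π) hnu (tq π) (htq π)
      (((Scheme.pointSmallEtale ξ).toPresheafFiber _ z Fi.obj).hom c₀)
    obtain ⟨Y, h, y, hy, hh⟩ := ((Scheme.pointSmallEtale ξ).toPresheafFiber_eq_iff' _ z _ _).1
      ((map_nsmul ((Scheme.pointSmallEtale ξ).toPresheafFiber _ z Fi.obj).hom k c₀).trans
        (he.trans (map_zsmul ((Scheme.pointSmallEtale ξ).toPresheafFiber _ z Fi.obj).hom n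
          (((ev x.1).hom.app (op W₀)).hom ((toD.hom.app (op W₀)).hom (tq π)))).symm))
    refine ⟨k, n, p, Y, h, (y.left : Spec (CommRingCat.of Ω) ⟶ Y.left) (default : Spec (CommRingCat.of Ω)), hk, hp,
      ?_, hh⟩
    subst hy
    exact hz (default : Spec (CommRingCat.of Ω))
  choose k n p Y h y hk hp hy hh using hgerm
  let K : ℕ := ∏ π, k π
  let m : Fw → ℤ := fun π => n π * ((∏ π' ∈ Finset.univ.erase π, k π' : ℕ) : ℤ)
  let t₀ : (J (X := X)).obj.obj (op W₀) := ∑ π, m π • tq π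
  have hbad : (hfib.toFinset.filter (fun π => ¬ π ⤳ w₀) : Set W₀.left).Finite := Finset.finite_toSet _
  let B : Set W₀.left := {π | (W₀.hom π = x.1 ∨ ∃ φ : Fw, IsH1 π ∧ ¬ UnitAt (rat W₀ (tq φ)) π) ∧ ¬ π ⤳ w₀}
  have hB : B.Finite := (hfib.union (Set.finite_iUnion fun φ : Fw =>
      finite_not_unitAt (rat_ne_zero W₀ (tq φ)))).subset fun π hπ => by
    rcases hπ.1 with h' | ⟨φ, h', h''⟩
    · exact Or.inl h'
    · exact Or.inr (Set.mem_iUnion.2 ⟨φ, h', h''⟩)
  let C : Set W₀.left := ⋃ π ∈ B, closure {π}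
  have hC : IsClosed C := hB.isClosed_biUnion fun π _ => isClosed_closure
  let O : W₀.left.Opens := ⟨Cᶜ, hC.isOpen_compl⟩
  have hwO : w₀ ∈ O := fun hw => by
    obtain ⟨π, hπ, hmem⟩ := Set.mem_iUnion₂.1 hw
    exact hπ.2 (specializes_iff_mem_closure.2 hmem)
  let V : X.Etale := Scheme.Etale.mk (O.ι ≫ W₀.hom)
  let g : V ⟶ W₀ := MorphismProperty.Over.homMk O.ι rfl trivial
  have hO : ∀ v : V.left, g.left v ∉ B := fun v hv => v.2 (Set.mem_iUnion₂.2 ⟨_, hv, subset_closure rfl⟩)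
  refine ⟨V, g ≫ g₀, (⟨w₀, hwO⟩ : O.toScheme), K, ((D (X := X)).obj.map g.op).hom ((toD.hom.app (op W₀)).hom t₀),
    (Scheme.Hom.comp_apply _ _ _).trans hw₀, Finset.prod_pos fun π _ => hk π, ?_, fun x' hx' => ?_⟩
  · have hc : (Fi.obj.map ((EtCoh.bc (ptI x.1)).map (g ≫ g₀)).op).hom c =
        (Fi.obj.map ((EtCoh.bc (ptI x.1)).map g).op).hom c₀ := by
      rw [Functor.map_comp, op_comp, Functor.map_comp]
      rfl
    rw [hc]
    refine sub_eq_zero.1 (eq_zero_of_germs Fi _ fun Ω _ _ ξ z => ?_)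
    let z₀ := (Scheme.pointSmallEtale ξ).fiber.map ((EtCoh.bc (ptI x.1)).map g) z
    have himg : imgPt ξ z₀ = g.left (imgPt ξ z) := imgPt_map_aux g (ptI x.1) _
    have hsp : imgPt ξ z₀ ⤳ w₀ := by
      by_contra hns
      exact hO (imgPt ξ z) (himg ▸ ⟨Or.inl (hom_imgPt ξ z₀), hns⟩)
    let φ : Fw := ⟨imgPt ξ z₀, hom_imgPt ξ z₀, hsp⟩
    refine (map_sub _ _ _).trans (sub_eq_zero.2 ?_)
    refine (evGerm_map ξ g z _).trans ?_
    refine Eq.trans ?_ (congrArg _ (map_nsmul (Fi.obj.map ((EtCoh.bc (ptI x.1)).map g).op).hom K c₀))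
    refine Eq.trans ?_ ((Scheme.pointSmallEtale ξ).toPresheafFiber_w_apply ((EtCoh.bc (ptI x.1)).map g) z Fi.obj _).symm
    show evGerm ξ z₀ ((toD.hom.app (op W₀)).hom t₀) = ((Scheme.pointSmallEtale ξ).toPresheafFiber _ z₀ Fi.obj).hom (K • c₀)
    have hrest : evGerm ξ z₀ ((toD.hom.app (op W₀)).hom (∑ π ∈ Finset.univ.erase φ, m π • tq π)) = 0 :=
      evGerm_eq_zero ξ _ z₀ (unitAt_sum _ _ fun π hπ => by
        rw [rat_zsmul]
        refine UnitAt.zpow ?_ _
        rw [htq]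
        exact hqu π _ hsp (h1 φ) fun e => (Finset.mem_erase.1 hπ).1 (Subtype.ext e.symm))
    have hsum : t₀ = m φ • tq φ + ∑ π ∈ Finset.univ.erase φ, m π • tq π :=
      (Finset.add_sum_erase _ (fun π => m π • tq π) (Finset.mem_univ φ)).symm
    rw [hsum, map_add, map_add, hrest, add_zero, map_zsmul, map_zsmul]
    haveI : IsPreimmersion (pullback.fst W₀.hom (ptI x.1)) :=
      MorphismProperty.pullback_fst _ _ (inferInstanceAs (IsPreimmersion (X.fromSpecResidueField x.1)))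
    have hzy : ((z₀.left : Spec (CommRingCat.of Ω) ⟶ ((EtCoh.bc (ptI x.1)).obj W₀).left))
        (default : Spec (CommRingCat.of Ω)) = (h φ).left (y φ) :=
      ((pullback.fst W₀.hom (ptI x.1)).isEmbedding.injective (hp φ).symm).trans (hy φ).symm
    obtain ⟨z', hz', -⟩ := EtFound.exists_lift_point (h φ) z₀ (y φ) hzy.symm
    have e := congrArg ((Scheme.pointSmallEtale ξ).toPresheafFiber _ z' Fi.obj).hom (hh φ)
    rw [(Scheme.pointSmallEtale ξ).toPresheafFiber_w_apply, (Scheme.pointSmallEtale ξ).toPresheafFiber_w_apply, hz']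
      at e
    rw [map_nsmul, map_zsmul] at e
    have e' : k φ • ((Scheme.pointSmallEtale ξ).toPresheafFiber _ z₀ Fi.obj).hom c₀ =
        n φ • ((Scheme.pointSmallEtale ξ).toPresheafFiber _ z₀ Fi.obj).hom
          (((ev x.1).hom.app (op W₀)).hom ((toD.hom.app (op W₀)).hom (tq φ))) := e
    refine Eq.trans ?_ (map_nsmul ((Scheme.pointSmallEtale ξ).toPresheafFiber _ z₀ Fi.obj).hom K c₀).symm
    show m φ • ((Scheme.pointSmallEtale ξ).toPresheafFiber _ z₀ Fi.obj).hom
      (((ev x.1).hom.app (op W₀)).hom ((toD.hom.app (op W₀)).hom (tq φ))) = _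
    rw [show K = (∏ π' ∈ Finset.univ.erase φ, k π') * k φ from
      (Finset.prod_erase_mul _ _ (Finset.mem_univ φ)).symm]
    refine Eq.trans ?_ ((congrArg ((∏ π' ∈ Finset.univ.erase φ, k π') • ·) e'.symm).trans (mul_smul _ _ _).symm)
    show (n φ * ((∏ π' ∈ Finset.univ.erase φ, k π' : ℕ) : ℤ)) • _ = _
    rw [mul_comm, mul_smul, natCast_zsmul]
  · refine eq_zero_of_germs ((EtCoh.pull (ptI x'.1)).obj (D (X := X))) _ fun Ω _ _ ξ z => ?_
    let z₀ := (Scheme.pointSmallEtale ξ).fiber.map ((EtCoh.bc (ptI x'.1)).map g) z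
    have himg : imgPt ξ z₀ = g.left (imgPt ξ z) := imgPt_map_aux g (ptI x'.1) _
    refine (evGerm_map ξ g z _).trans (evGerm_eq_zero ξ t₀ z₀ (unitAt_sum _ _ fun φ _ => ?_))
    rw [rat_zsmul]
    refine UnitAt.zpow ?_ _
    have hπ : IsH1 (imgPt ξ z₀) := (isH1_iff W₀ _).2 ((hom_imgPt ξ z₀).symm ▸ x'.2)
    by_cases hsp : imgPt ξ z₀ ⤳ w₀
    · rw [htq]
      exact hqu φ _ hsp hπ fun e => hx' (Subtype.ext ((hom_imgPt ξ z₀).symm.trans
        ((congrArg W₀.hom e).trans φ.2.1)))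
    · by_contra hnu
      exact hO (imgPt ξ z) (himg ▸ ⟨Or.inr ⟨φ, hπ, hnu⟩, hsp⟩)

end Groth.Agent.GmDiv
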