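import Groth.Agent.GmDiv.Divisor
import Groth.Agent.EtLC12.TorsionColim
import Groth.Agent.H9Transfer.TorsionSheaf

/-!
# The filtration of the sheaf of divisors by supports
-/

set_option autoImplicit false
set_option linter.style.haveILetI false
set_option linter.unusedSectionVars false
set_option backward.isDefEq.respectTransparency false
set_option backward.isDefEq.respectTransparency.types false

universe u

open CategoryTheory CategoryTheory.Limits AlgebraicGeometry Opposite TopologicalSpace

noncomputable section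

namespace Groth.Agent.GmDiv

attribute [local instance] Abelian.hasFiniteBiproducts

variable {X : Scheme.{u}}

/-- Sections of a subobject filtration exhaust the sheaf. -/
theorem isIso_desc_of_exhaust {Idx : Type (u + 1)} [SmallCategory Idx] [IsFiltered Idx]
    (Dg : Idx ⥤ EtCoh.Ab X) (co : Cocone Dg)
    (hinj : ∀ i (U : X.Etale), Function.Injective ((co.ι.app i).hom.app (op U)).hom)
    (hex : ∀ (U : X.Etale) (s : co.pt.obj.obj (op U)) (w : U.left),
      ∃ (V : X.Etale) (g : V ⟶ U) (v : V.left) (i : Idx) (a : (Dg.obj i).obj.obj (op V)),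
        g.left v = w ∧ ((co.ι.app i).hom.app (op V)).hom a = (co.pt.obj.map g.op).hom s) :
    IsIso (colimit.desc Dg co) := by
  set δ := colimit.desc Dg co with hδ
  have hι : ∀ (k : Idx) (V : X.Etale) (z : (Dg.obj k).obj.obj (op V)),
      (δ.hom.app (op V)).hom ((colimit.ι Dg k).hom.app (op V) z) = ((co.ι.app k).hom.app (op V)).hom z := fun k V z =>
    congrArg (fun t : Dg.obj k ⟶ co.pt => (t.hom.app (op V)).hom z) (colimit.ι_desc co k)
  haveI : Sheaf.IsLocallyInjective δ := ⟨fun {U} s t e => by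
    refine (EtFound.mem_topology_iff _).2 fun x => ?_
    obtain ⟨O, hO, hx, -⟩ := exists_isAffineOpen_mem_and_subset (U := (⊤ : U.unop.left.Opens)) (x := x) trivial
    haveI : Etale U.unop.hom := U.unop.prop
    let V : X.Etale := Scheme.Etale.mk (O.ι ≫ U.unop.hom)
    let g : V ⟶ U.unop := MorphismProperty.Over.homMk O.ι rfl trivial
    haveI : IsAffine V.left := hO
    haveI := EtFound.preservesColimitsOfShape_sections_qcqs_ab V (EtFound.isQcqsObj_of_isAffine V) Idx
    let hc := isColimitOfPreserves (sheafToPresheaf X.smallEtaleTopology AddCommGrpCat.{u + 1} ⋙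
      (evaluation X.Etaleᵒᵖ AddCommGrpCat.{u + 1}).obj (op V)) (colimit.isColimit Dg)
    refine ⟨V, g, (⟨x, hx⟩ : O.toScheme), ?_, rfl⟩
    obtain ⟨i, a, ha⟩ := Concrete.isColimit_exists_rep _ hc (((colimit Dg).obj.map g.op).hom s)
    obtain ⟨j, b, hb⟩ := Concrete.isColimit_exists_rep _ hc (((colimit Dg).obj.map g.op).hom t)
    let k : Idx := IsFiltered.max i j
    let a' := (Dg.map (IsFiltered.leftToMax i j)).hom.app (op V) a
    let b' := (Dg.map (IsFiltered.rightToMax i j)).hom.app (op V) b
    have ha' : (colimit.ι Dg k).hom.app (op V) a' = ((colimit Dg).obj.map g.op).hom s := by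
      exact (congrArg (fun t : Dg.obj i ⟶ colimit Dg => (t.hom.app (op V)).hom a)
        (colimit.w Dg (IsFiltered.leftToMax i j))).trans ha
    have hb' : (colimit.ι Dg k).hom.app (op V) b' = ((colimit Dg).obj.map g.op).hom t := by
      exact (congrArg (fun t : Dg.obj j ⟶ colimit Dg => (t.hom.app (op V)).hom b)
        (colimit.w Dg (IsFiltered.rightToMax i j))).trans hb
    have hab : a' = b' := hinj k V <| by
      rw [← hι, ← hι, ha', hb']
      exact (NatTrans.naturality_apply δ.hom g.op s).trans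
        ((congrArg (co.pt.obj.map g.op).hom e).trans (NatTrans.naturality_apply δ.hom g.op t).symm)
    show ((colimit Dg).obj.map g.op).hom s = ((colimit Dg).obj.map g.op).hom t
    rw [← ha', ← hb', hab]⟩
  haveI : Sheaf.IsLocallySurjective δ := ⟨fun {U} s => by
    refine (EtFound.mem_topology_iff _).2 fun x => ?_
    obtain ⟨V, g, v, i, a, hv, ha⟩ := hex U s x
    exact ⟨V, g, v, ⟨(colimit.ι Dg i).hom.app (op V) a, (hι i V a).trans ha⟩, hv⟩⟩
  exact (Sheaf.isLocallyBijective_iff_isIso δ).1 ⟨inferInstance, inferInstance⟩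

variable [IsLocallyNoetherian X] [Finite (Gen X)] [∀ η : Gen X, IsDomain (X.presheaf.stalk η.1)]

/-- The restrictions outside a finite set of height one points. -/
def evOut (F : Finset (H1 X)) : D (X := X) ⟶
    ∏ᶜ fun x : {x : H1 X // x ∉ F} => (EtCoh.push (ptI x.1.1)).obj ((EtCoh.pull (ptI x.1.1)).obj (D (X := X))) :=
  Pi.lift fun x => ev x.1.1

/-- The divisors supported in a finite set. -/
def Supp (F : Finset (H1 X)) : EtCoh.Ab X := kernel (evOut F)

/-- The family of fibre sheaves of a finite set. -/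
abbrev ptsFam (F : Finset (H1 X)) : F → EtCoh.Ab X :=
  fun x => (EtCoh.push (ptI x.1.1)).obj ((EtCoh.pull (ptI x.1.1)).obj (D (X := X)))

/-- The fibre sheaves of a finite set. -/
def Pts (F : Finset (H1 X)) : EtCoh.Ab X :=
  ⨁ fun x : F => (EtCoh.push (ptI x.1.1)).obj ((EtCoh.pull (ptI x.1.1)).obj (D (X := X)))

/-- The comparison map. -/
def toPts (F : Finset (H1 X)) : Supp F ⟶ Pts F :=
  kernel.ι (evOut F) ≫ biproduct.lift fun x : F => ev x.1.1

theorem ι_ev_eq_zero (F : Finset (H1 X)) (x : H1 X) (hx : x ∉ F) : kernel.ι (evOut F) ≫ ev x.1 = 0 := by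
  have h := congrArg (· ≫ Pi.π _ (⟨x, hx⟩ : {x : H1 X // x ∉ F})) (kernel.condition (evOut F))
  simp only [Category.assoc, zero_comp, evOut, Limits.Pi.lift_π] at h
  exact h

theorem exists_supp (F : Finset (H1 X)) {V : X.Etale} (d : (D (X := X)).obj.obj (op V))
    (h : ∀ x : H1 X, x ∉ F → ((ev x.1).hom.app (op V)).hom d = 0) :
    ∃ e, ((kernel.ι (evOut F)).hom.app (op V)).hom e = d := by
  refine SiteBase.exists_kernel_section
    (ShortComplex.mk (kernel.ι (evOut F)) (evOut F) (kernel.condition _)) V d ?_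
  let G := sheafToPresheaf X.smallEtaleTopology AddCommGrpCat.{u + 1} ⋙ (evaluation _ AddCommGrpCat.{u + 1}).obj (op V)
  refine Concrete.isLimit_ext _ (isLimitOfPreserves G
    (productIsProduct fun x : {x : H1 X // x ∉ F} => (EtCoh.push (ptI x.1.1)).obj ((EtCoh.pull (ptI x.1.1)).obj (D (X := X))))) _ _
    fun j => ?_
  show ((evOut F ≫ Pi.π _ j.as).hom.app (op V)).hom d =
    ((Pi.π (fun x : {x : H1 X // x ∉ F} => (EtCoh.push (ptI x.1.1)).obj ((EtCoh.pull (ptI x.1.1)).obj (D (X := X)))) j.as).hom.app (op V)).hom 0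
  rw [map_zero, evOut, Limits.Pi.lift_π]
  exact h j.as.1 j.as.2

variable (hfact : ∀ (U : X.Etale) (u : U.left), IsDomain (U.left.presheaf.stalk u) ∧
    UniqueFactorizationMonoid (U.left.presheaf.stalk u))

include hfact in
theorem mono_toPts (F : Finset (H1 X)) : Mono (toPts F) := by
  have hinj : ∀ W : X.Etale, Function.Injective ((toPts F).hom.app (op W)).hom := fun W =>
    (injective_iff_map_eq_zero _).2 fun z hz => by
      apply SiteBase.sheaf_app_injective (kernel.ι (evOut F)) W
      refine Eq.trans ?_ (map_zero ((kernel.ι (evOut F)).hom.app (op W)).hom).symm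
      have hall : ∀ x : H1 X, ((ev x.1).hom.app (op W)).hom (((kernel.ι (evOut F)).hom.app (op W)).hom z) = 0 := fun x => by
        by_cases hx : x ∈ F
        · have h := congrArg ((biproduct.π (ptsFam F) ⟨x, hx⟩).hom.app (op W)).hom hz
          rw [map_zero] at h
          refine Eq.trans ?_ h
          show ((kernel.ι (evOut F) ≫ ev x.1).hom.app (op W)).hom z = ((toPts F ≫ biproduct.π _ (⟨x, hx⟩ : F)).hom.app (op W)).hom z
          rw [toPts, Category.assoc, biproduct.lift_π]
          rfl
        · exact congrArg (fun f : Supp F ⟶ _ => (f.hom.app (op W)).hom z) (ι_ev_eq_zero F x hx)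
      refine eq_zero_of_local _ _ fun w => ?_
      obtain ⟨W', g, w', t, hw', hI, -, ht⟩ := exists_rep (fun U u => (hfact U u).1) (((kernel.ι (evOut F)).hom.app (op W)).hom z) w
      haveI := (hfact W' w').2
      have hu : UnitAt (rat W' t) w' := unitAt_of_h1 (rat_ne_zero W' t) fun π _ hπ =>
        unitAt_of_ev_eq_zero (fun U u => (hfact U u).1) t π (W'.hom π) rfl (by
          rw [ht]
          refine (NatTrans.naturality_apply (ev (X := X) (W'.hom π)).hom g.op _).trans ?_
          rw [hall ⟨W'.hom π, (isH1_iff W' π).1 hπ⟩, map_zero])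
      obtain ⟨V, g', v, hv, hzero⟩ := exists_nhd_of_unitAt t w' hu
      refine ⟨V, g' ≫ g, v, (Scheme.Hom.comp_apply _ _ _).trans ((congrArg g.left hv).trans hw'), ?_⟩
      rw [op_comp, Functor.map_comp]
      exact (congrArg ((D (X := X)).obj.map g'.op).hom ht.symm).trans hzero
  have : ∀ U, Mono ((toPts F).hom.app U) := fun U => (AddCommGrpCat.mono_iff_injective _).2 (hinj U.unop)
  have := NatTrans.mono_of_mono_app (toPts F).hom
  exact (sheafToPresheaf _ _).mono_of_mono_map this

include hfact in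
theorem isTorsion_cokernel_toPts (F : Finset (H1 X)) : EtCoh.IsTorsion (cokernel (toPts F)) := by
  classical
  rw [H9Transfer.isTorsion_iff_stalks]
  intro Ω _ _ ξ a
  haveI : PreservesBinaryBiproducts (EtCoh.stalk ξ) := preservesBinaryBiproducts_of_preservesBinaryProducts _
  haveI : (EtCoh.stalk ξ).Additive := Functor.additive_of_preservesBinaryBiproducts _
  obtain ⟨b, rfl⟩ := (EtFound.epi_iff_stalks (cokernel.π (toPts F))).1 inferInstance Ω ξ a
  have htot : (∑ x : F, biproduct.π (ptsFam F) x ≫
      biproduct.ι (ptsFam F) x) = 𝟙 (Pts F) := by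
    refine biproduct.hom_ext _ _ fun k => ?_
    simp [Preadditive.sum_comp, biproduct.ι_π, comp_dite, Pts]
  let G : (Pts F ⟶ Pts F) →+ (EtCoh.stalk ξ).obj (cokernel (toPts F)) :=
    AddMonoidHom.mk' (fun f => ((EtCoh.stalk ξ).map (f ≫ cokernel.π (toPts F))).hom b) (fun f g => by
      rw [Preadditive.add_comp, Functor.map_add]; rfl)
  have hb : ((EtCoh.stalk ξ).map (cokernel.π (toPts F))).hom b = ∑ x : F, G (biproduct.π (ptsFam F) x ≫
      biproduct.ι (ptsFam F) x) := by
    rw [← map_sum, htot]
    show _ = ((EtCoh.stalk ξ).map (𝟙 _ ≫ cokernel.π (toPts F))).hom b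
    rw [Category.id_comp]
  refine hb.symm ▸ (AddCommGroup.torsion _).sum_mem fun x _ => ?_
  show IsOfFinAddOrder (((EtCoh.stalk ξ).map ((biproduct.π (ptsFam F) x ≫
      biproduct.ι (ptsFam F) x) ≫ cokernel.π (toPts F))).hom b)
  rw [Category.assoc, Functor.map_comp]
  let α : (EtCoh.push (ptI x.1.1)).obj ((EtCoh.pull (ptI x.1.1)).obj (D (X := X))) ⟶ cokernel (toPts F) :=
    biproduct.ι (ptsFam F) x ≫ cokernel.π (toPts F)
  suffices hα : ∀ e, IsOfFinAddOrder (((EtCoh.stalk ξ).map α).hom e) from hα _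
  intro e
  obtain ⟨W, z, c, rfl⟩ := (Scheme.pointSmallEtale ξ).toPresheafFiber_jointly_surjective e
  obtain ⟨V, g, v, N, d, hv, hN, hd, hoth⟩ := exists_divisor hfact x.1 c
    ((z.left : Spec (CommRingCat.of Ω) ⟶ W.left) (default : Spec (CommRingCat.of Ω)))
  obtain ⟨z', hz', -⟩ := EtFound.exists_lift_point g z v hv
  obtain ⟨e', he'⟩ := exists_supp F d fun x' hx' => hoth x' fun h => hx' (h ▸ x.2)
  refine isOfFinAddOrder_iff_nsmul_eq_zero.2 ⟨N, hN, ?_⟩
  have key : (((toPts F)).hom.app (op V)).hom e' =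
      ((biproduct.ι (ptsFam F) x).hom.app (op V)).hom
        (((ev x.1.1).hom.app (op V)).hom d) := by
    let Φ : (Pts F ⟶ Pts F) →+ (Pts F).obj.obj (op V) :=
      AddMonoidHom.mk' (fun f => (f.hom.app (op V)).hom (((toPts F).hom.app (op V)).hom e')) (fun _ _ => rfl)
    have h := congrArg Φ htot
    rw [map_sum, Finset.sum_eq_single x (fun y _ hy => ?_) (fun h => absurd (Finset.mem_univ x) h)] at h
    · refine h.symm.trans ?_
      show ((biproduct.ι (ptsFam F) x).hom.app (op V)).hom (((toPts F ≫ biproduct.π (ptsFam F) x).hom.app (op V)).hom e') = _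
      rw [toPts, Category.assoc, biproduct.lift_π]
      exact congrArg _ (congrArg _ he')
    · show ((biproduct.ι (ptsFam F) y).hom.app (op V)).hom (((toPts F ≫ biproduct.π (ptsFam F) y).hom.app (op V)).hom e') = 0
      rw [toPts, Category.assoc, biproduct.lift_π]
      refine (congrArg ((biproduct.ι (ptsFam F) y).hom.app (op V)).hom ((congrArg _ he').trans ?_)).trans (map_zero _)
      exact hoth y.1 fun h => hy (Subtype.ext h)
  have hzero : (α.hom.app (op V)).hom (N • (((EtCoh.pull (ptI x.1.1)).obj (D (X := X))).obj.map ((EtCoh.bc (ptI x.1.1)).map g).op).hom c) = 0 := by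
    rw [← hd]
    show ((cokernel.π (toPts F)).hom.app (op V)).hom (((biproduct.ι (ptsFam F) x).hom.app (op V)).hom _) = 0
    rw [← key]
    exact congrArg (fun f : Supp F ⟶ _ => (f.hom.app (op V)).hom e') (cokernel.condition (toPts F))
  rw [← map_nsmul]
  refine (congrArg ((EtCoh.stalk ξ).map α).hom (map_nsmul ((Scheme.pointSmallEtale ξ).toPresheafFiber W z
    ((EtCoh.push (ptI x.1.1)).obj ((EtCoh.pull (ptI x.1.1)).obj (D (X := X)))).obj).hom N c).symm).trans ?_
  rw [← hz']
  refine (congrArg ((EtCoh.stalk ξ).map α).hom ((Scheme.pointSmallEtale ξ).toPresheafFiber_w_apply g z' _ _).symm).trans ?_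
  refine ((Scheme.pointSmallEtale ξ).toPresheafFiber_naturality_apply α.hom V z' _).trans ?_
  refine (congrArg ((Scheme.pointSmallEtale ξ).toPresheafFiber V z' (cokernel (toPts F)).obj).hom ?_).trans (map_zero _)
  refine Eq.trans ?_ hzero
  exact congrArg (α.hom.app (op V)).hom (map_nsmul (((EtCoh.push (ptI x.1.1)).obj ((EtCoh.pull (ptI x.1.1)).obj (D (X := X)))).obj.map g.op).hom N c)

/-- The filtration by supports. -/
def suppFunctor : ULift.{u + 1} (Finset (H1 X)) ⥤ EtCoh.Ab X where
  obj F := Supp F.down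
  map {F G} f := kernel.lift _ (kernel.ι (evOut F.down)) (Limits.Pi.hom_ext _ _ fun j => by
    refine ((Category.assoc _ _ _).trans ?_).trans zero_comp.symm
    refine Eq.trans (congrArg (kernel.ι (evOut F.down) ≫ ·) (Limits.Pi.lift_π _ j)) ?_
    exact ι_ev_eq_zero F.down j.1 fun h => j.2 (leOfHom f h))
  map_id F := equalizer.hom_ext (by simp [Supp])
  map_comp f g := equalizer.hom_ext (by simp [Supp])

/-- The divisor sheaf as the union of the filtration. -/
def suppCocone : Cocone (suppFunctor (X := X)) where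
  pt := D
  ι := { app := fun F => kernel.ι (evOut F.down)
         naturality := fun F G f => (kernel.lift_ι _ _ _).trans (Category.comp_id _).symm }

include hfact in
theorem isIso_suppDesc [DecidableEq (H1 X)] : IsIso (colimit.desc (suppFunctor (X := X)) suppCocone) := by
  classical
  refine isIso_desc_of_exhaust _ _ (fun i U => SiteBase.sheaf_app_injective (kernel.ι (evOut i.down)) U)
    fun U s w => ?_
  obtain ⟨V, g, v, t, hv, hI, hA, ht⟩ := exists_rep (fun U u => (hfact U u).1) s w
  haveI : Etale V.hom := V.prop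
  haveI : IsLocallyNoetherian V.left :=
    @LocallyOfFiniteType.isLocallyNoetherian V.left X V.hom inferInstance inferInstance
  haveI : IsNoetherian V.left := { }
  have hfin : {π : V.left | IsH1 π ∧ ¬ UnitAt (rat V t) π}.Finite := finite_not_unitAt (rat_ne_zero V t)
  let F : Finset (H1 X) := hfin.toFinset.attach.image fun π =>
    ⟨V.hom π.1, (isH1_iff V π.1).1 (hfin.mem_toFinset.1 π.2).1⟩
  obtain ⟨e, he⟩ := exists_supp F (((D (X := X)).obj.map g.op).hom s) fun x hx => by
    rw [← ht]
    refine ev_eq_zero t x.1 fun π hπ => ?_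
    by_contra hnu
    refine hx (Finset.mem_image.2 ⟨⟨π, hfin.mem_toFinset.2 ⟨(isH1_iff V π).2 (hπ.symm ▸ x.2), hnu⟩⟩,
      Finset.mem_attach _ _, Subtype.ext hπ⟩)
  exact ⟨V, g, v, ULift.up F, e, hv, he⟩

end Groth.Agent.GmDiv
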