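import Groth.Agent.GmDiv.Sheaf

/-!
# Divisors near height one points
-/

set_option autoImplicit false
set_option linter.style.haveILetI false
set_option linter.unusedSectionVars false
set_option backward.isDefEq.respectTransparency false
set_option backward.isDefEq.respectTransparency.types false

universe u

open CategoryTheory CategoryTheory.Limits AlgebraicGeometry Opposite TopologicalSpace

noncomputable section

namespace Groth.Agent.GmDiv

variable {X : Scheme.{u}}

/-- A point of height one. -/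
def IsH1X (x : X) : Prop :=
  (¬ ∀ y : X, y ⤳ x → y = x) ∧ ∀ y : X, y ⤳ x → y = x ∨ ∀ z : X, z ⤳ y → z = y

/-- The points of height one. -/
abbrev H1 (X : Scheme.{u}) : Type u := {x : X // IsH1X x}

theorem isH1_iff (W : X.Etale) [IsIntegral W.left] [∀ η : Gen X, IsDomain (X.presheaf.stalk η.1)] (π : W.left) :
    IsH1 π ↔ IsH1X (W.hom π) := by
  haveI := etale_hom W
  have hlift : ∀ {η : Gen X} {π' : W.left}, W.hom π' = η.1 → π' = genericPoint W.left := fun {η π'} h => by
    obtain ⟨p, hp, -⟩ := Scheme.Pullback.exists_preimage_pullback (f := W.hom) (g := ptI η.1) π' default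
      (h.trans (Scheme.fromSpecResidueField_apply η.1 _).symm)
    exact hp.symm.trans (eq_generic W p).2
  refine ⟨fun h => ⟨fun hgen => h.1 (hlift (η := ⟨W.hom π, hgen⟩) rfl), fun y hy => ?_⟩, fun h => ⟨?_, fun π' hπ' => ?_⟩⟩
  · obtain ⟨π', hπ', rfl⟩ := Flat.generalizingMap W.hom hy
    rcases h.2 π' hπ' with rfl | rfl
    · exact Or.inl rfl
    · exact Or.inr (etaOf W).2
  · rintro rfl
    exact h.1 (etaOf W).2
  · rcases h.2 _ (hπ'.map W.hom.continuous) with e | e
    · left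
      have hd := W.hom.isDiscrete_preimage_singleton (W.hom π)
      haveI : DiscreteTopology (W.hom ⁻¹' {W.hom π} : Set W.left) := hd.to_subtype
      have : (⟨π', e⟩ : (W.hom ⁻¹' {W.hom π} : Set W.left)) ⤳ ⟨π, rfl⟩ :=
        Topology.IsInducing.subtypeVal.specializes_iff.1 hπ'
      exact congrArg Subtype.val this.eq
    · exact Or.inr (hlift (η := ⟨W.hom π', e⟩) rfl)

theorem bcFiberEquiv_map {Y : Scheme.{u}} {Ω : Type u} [Field Ω] [IsSepClosed Ω] (f : Y ⟶ X)
    (ξ : Spec (CommRingCat.of Ω) ⟶ Y) {V W : X.Etale} (g : V ⟶ W)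
    (t : (Scheme.pointSmallEtale ξ).fiber.obj ((EtCoh.bc f).obj V)) :
    EtFound.bcFiberEquiv f ξ W ((Scheme.pointSmallEtale ξ).fiber.map ((EtCoh.bc f).map g) t) =
      (Scheme.pointSmallEtale (ξ ≫ f)).fiber.map g (EtFound.bcFiberEquiv f ξ V t) := by
  apply CategoryTheory.Over.OverMorphism.ext
  change ((t.left : Spec (CommRingCat.of Ω) ⟶ ((EtCoh.bc f).obj V).left) ≫ ((EtCoh.bc f).map g).left) ≫
      pullback.fst W.hom f = ((t.left : Spec (CommRingCat.of Ω) ⟶ pullback V.hom f) ≫ pullback.fst V.hom f) ≫ g.left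
  rw [Category.assoc, Category.assoc]
  exact congrArg _ (EtCoh.isPullback_bc_map f g).w

theorem fiber_map_comp {Ω : Type u} [Field Ω] [IsSepClosed Ω] (ξ : Spec (CommRingCat.of Ω) ⟶ X) {U V W : X.Etale}
    (a : U ⟶ V) (b : V ⟶ W) (t : (Scheme.pointSmallEtale ξ).fiber.obj U) :
    (Scheme.pointSmallEtale ξ).fiber.map (a ≫ b) t =
      (Scheme.pointSmallEtale ξ).fiber.map b ((Scheme.pointSmallEtale ξ).fiber.map a t) := by
  rw [Functor.map_comp]
  rfl

theorem imgPt_map_aux {V W : X.Etale} (g : V ⟶ W) {Y : Scheme.{u}} (f : Y ⟶ X)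
    (p : (pullback V.hom f : Scheme.{u})) :
    pullback.fst W.hom f (((EtCoh.bc f).map g).left p) = g.left (pullback.fst V.hom f p) :=
  (Scheme.Hom.comp_apply _ _ _).symm.trans
    ((congrArg (fun h : (pullback V.hom f : Scheme.{u}) ⟶ W.left => h p) (EtCoh.isPullback_bc_map f g).w).trans
      (Scheme.Hom.comp_apply _ _ _))

/-- Sections with vanishing germs vanish. -/
theorem eq_zero_of_germs (F : EtCoh.Ab X) {W : X.Etale} (s : F.obj.obj (op W))
    (h : ∀ (Ω : Type u) (_ : Field Ω) (_ : IsSepClosed Ω) (ξ : Spec (CommRingCat.of Ω) ⟶ X)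
      (z : (Scheme.pointSmallEtale ξ).fiber.obj W), (Scheme.pointSmallEtale ξ).toPresheafFiber W z F.obj s = 0) :
    s = 0 := by
  haveI := SiteBase.hasSheafCompose_forget.{u + 1} X.smallEtaleTopology
  exact (((isSheaf_iff_isSheaf_of_type _ _).1
    ((sheafCompose X.smallEtaleTopology (forget AddCommGrpCat.{u + 1})).obj F).property).isSeparated _
    (EtFound.equalizerSieve_mem_of_germs F.obj W s 0
      fun Ω a b ξ z => (h Ω a b ξ z).trans (map_zero _).symm)).ext fun V g hg => hg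

section Local

variable [IsLocallyNoetherian X] [Finite (Gen X)] [∀ η : Gen X, IsDomain (X.presheaf.stalk η.1)]
  {x : X} {Ω : Type u} [Field Ω] [IsSepClosed Ω] (ξ : Spec (CommRingCat.of Ω) ⟶ Spec (CommRingCat.of (X.residueField x)))

/-- The image point of a geometric point of a fibre. -/
def imgPt {W : X.Etale} (z : (Scheme.pointSmallEtale ξ).fiber.obj ((EtCoh.bc (ptI x)).obj W)) : W.left :=
  pullback.fst W.hom (ptI x) ((z.left : Spec (CommRingCat.of Ω) ⟶ (pullback W.hom (ptI x) : Scheme.{u}))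
    (default : Spec (CommRingCat.of Ω)))

theorem hom_imgPt {W : X.Etale} (z : (Scheme.pointSmallEtale ξ).fiber.obj ((EtCoh.bc (ptI x)).obj W)) :
    W.hom (imgPt ξ z) = x :=
  (Scheme.Hom.comp_apply (pullback.fst W.hom (ptI x)) W.hom _).symm.trans
    ((congrArg (fun f : (pullback W.hom (ptI x) : Scheme.{u}) ⟶ X =>
      f ((z.left : Spec (CommRingCat.of Ω) ⟶ (pullback W.hom (ptI x) : Scheme.{u})) (default : Spec (CommRingCat.of Ω))))
        pullback.condition).trans
      ((Scheme.Hom.comp_apply (pullback.snd W.hom (ptI x)) (ptI x) _).trans (Scheme.fromSpecResidueField_apply x _)))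

/-- The germ of the restriction of a divisor to the fibre. -/
def evGerm {W : X.Etale} (z : (Scheme.pointSmallEtale ξ).fiber.obj ((EtCoh.bc (ptI x)).obj W)) :
    (D (X := X)).obj.obj (op W) →+ (EtCoh.stalk ξ).obj ((EtCoh.pull (ptI x)).obj (D (X := X))) :=
  ((Scheme.pointSmallEtale ξ).toPresheafFiber ((EtCoh.bc (ptI x)).obj W) z
    ((EtCoh.pull (ptI x)).obj (D (X := X))).obj).hom.comp ((ev x).hom.app (op W)).hom

theorem evGerm_map {V W : X.Etale} (g : V ⟶ W)
    (z : (Scheme.pointSmallEtale ξ).fiber.obj ((EtCoh.bc (ptI x)).obj V)) (s : (D (X := X)).obj.obj (op W)) :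
    evGerm ξ z (((D (X := X)).obj.map g.op).hom s) =
      evGerm ξ ((Scheme.pointSmallEtale ξ).fiber.map ((EtCoh.bc (ptI x)).map g) z) s := by
  refine (congrArg ((Scheme.pointSmallEtale ξ).toPresheafFiber ((EtCoh.bc (ptI x)).obj V) z
    ((EtCoh.pull (ptI x)).obj (D (X := X))).obj).hom (NatTrans.naturality_apply (ev (X := X) x).hom g.op s)).trans ?_
  exact (Scheme.pointSmallEtale ξ).toPresheafFiber_w_apply ((EtCoh.bc (ptI x)).map g) z
    ((EtCoh.pull (ptI x)).obj (D (X := X))).obj _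

/-- A rational function which is a unit at a point has vanishing divisor germ there. -/
theorem evGerm_eq_zero {W : X.Etale} [IsIntegral W.left] (t : (J (X := X)).obj.obj (op W))
    (z : (Scheme.pointSmallEtale ξ).fiber.obj ((EtCoh.bc (ptI x)).obj W))
    (h : UnitAt (rat W t) (imgPt ξ z)) : evGerm ξ z ((toD.hom.app (op W)).hom t) = 0 := by
  obtain ⟨V, g, v, hv, hzero⟩ := exists_nhd_of_unitAt t _ h
  obtain ⟨q, -, hq⟩ := Scheme.exists_preimage_of_isPullback (EtCoh.isPullback_bc_map (ptI x) g).flip v _ hv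
  obtain ⟨z', hz', -⟩ := EtFound.exists_lift_point ((EtCoh.bc (ptI x)).map g) z q hq
  rw [← hz', ← evGerm_map, hzero, map_zero]

variable (hfact : ∀ (U : X.Etale) (u : U.left), IsDomain (U.left.presheaf.stalk u) ∧
  UniqueFactorizationMonoid (U.left.presheaf.stalk u))

set_option maxHeartbeats 1000000 in
include hfact in
/-- Near a height one point a multiple of any germ is a multiple of a given equation. -/
theorem exists_multiple (hx : IsH1X x) {W : X.Etale} [IsIntegral W.left]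
    (z : (Scheme.pointSmallEtale ξ).fiber.obj ((EtCoh.bc (ptI x)).obj W)) {w : W.left} (hw : imgPt ξ z ⤳ w)
    (q : W.left.presheaf.stalk w) (hq0 : q ≠ 0) (hq : ¬ IsUnit ((W.left.presheaf.stalkSpecializes hw).hom q))
    (tq : (J (X := X)).obj.obj (op W)) (htq : rat W tq = algebraMap _ W.left.functionField q)
    (a : (EtCoh.stalk ξ).obj ((EtCoh.pull (ptI x)).obj (D (X := X)))) :
    ∃ (k : ℕ) (n : ℤ), 0 < k ∧ k • a = n • evGerm ξ z ((toD.hom.app (op W)).hom tq) := by
  have hdom := fun U u => (hfact U u).1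
  let iso := EtFound.sheafFiberPullIso (A := AddCommGrpCat.{u + 1}) (ptI x) ξ
  obtain ⟨b, rfl⟩ : ∃ b, (iso.inv.app (D (X := X))).hom b = a :=
    ⟨(iso.hom.app (D (X := X))).hom a, ConcreteCategory.congr_hom (iso.hom_inv_id_app (D (X := X))) a⟩
  obtain ⟨W₁, w₁, s, rfl⟩ := (Scheme.pointSmallEtale (ξ ≫ ptI x)).toPresheafFiber_jointly_surjective b
  let Φ := Scheme.pointSmallEtale (ξ ≫ ptI x)
  obtain ⟨⟨V₀, z₀⟩, ⟨a₁, ha₁⟩, ⟨b₁, hb₁⟩, -⟩ := IsCofilteredOrEmpty.cone_objs (Φ.fiber.elementsMk W₁ w₁)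
    (Φ.fiber.elementsMk W (EtFound.bcFiberEquiv (ptI x) ξ W z))
  obtain ⟨a', ha'⟩ : ∃ a' : V₀ ⟶ W₁, Φ.fiber.map a' z₀ = w₁ := ⟨a₁, ha₁⟩
  obtain ⟨b', hb'⟩ : ∃ b' : V₀ ⟶ W, Φ.fiber.map b' z₀ = EtFound.bcFiberEquiv (ptI x) ξ W z := ⟨b₁, hb₁⟩
  obtain ⟨V, g, v, t, hv, hI, -, ht⟩ := exists_rep hdom (((D (X := X)).obj.map a'.op).hom s)
    ((z₀.left : Spec (CommRingCat.of Ω) ⟶ V₀.left) (default : Spec (CommRingCat.of Ω)))
  obtain ⟨zV, hzV, -⟩ := EtFound.exists_lift_point g z₀ v hv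
  obtain ⟨z', rfl⟩ := (EtFound.bcFiberEquiv (ptI x) ξ V).surjective zV
  have hz : (Scheme.pointSmallEtale ξ).fiber.map ((EtCoh.bc (ptI x)).map (g ≫ b')) z' = z := by
    apply (EtFound.bcFiberEquiv (ptI x) ξ W).injective
    refine Eq.trans ?_ hb'
    refine (bcFiberEquiv_map (ptI x) ξ (g ≫ b') z').trans ?_
    refine (fiber_map_comp (ξ ≫ ptI x) g b' _).trans ?_
    exact congrArg (Φ.fiber.map b') hzV
  have hgerm : (Φ.toPresheafFiber W₁ w₁ (D (X := X)).obj).hom s =
      (Φ.toPresheafFiber V (EtFound.bcFiberEquiv (ptI x) ξ V z') (D (X := X)).obj).hom ((toD.hom.app (op V)).hom t) := by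
    refine Eq.symm ?_
    refine (congrArg (Φ.toPresheafFiber V _ (D (X := X)).obj).hom ht).trans ?_
    refine (Φ.toPresheafFiber_w_apply g _ (D (X := X)).obj _).trans ?_
    refine (congrArg (fun y => (Φ.toPresheafFiber V₀ y (D (X := X)).obj).hom _) hzV).trans ?_
    refine (Φ.toPresheafFiber_w_apply a' z₀ (D (X := X)).obj s).trans ?_
    rw [ha']
  have ha : (iso.inv.app (D (X := X))).hom ((Φ.toPresheafFiber W₁ w₁ (D (X := X)).obj).hom s) =
      evGerm ξ z' ((toD.hom.app (op V)).hom t) := by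
    rw [hgerm]
    exact ConcreteCategory.congr_hom
      (EtFound.sheafFiberPullIso_germ (A := AddCommGrpCat.{u + 1}) (ptI x) ξ (D (X := X)) V z') _
  let π : V.left := imgPt ξ z'
  have hπ : IsH1 π := (isH1_iff V π).2 ((hom_imgPt ξ z').symm ▸ hx)
  haveI : Etale (g ≫ b').left := EtFound.etale_left _
  have himg : (g ≫ b').left π = imgPt ξ z := by
    rw [← hz]
    exact (imgPt_map_aux (g ≫ b') (ptI x) _).symm
  have hsp : (g ≫ b').left π ⤳ w := himg ▸ hw
  let r := (W.left.presheaf.stalkSpecializes hsp).hom q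
  let q' := ((g ≫ b').left.stalkMap π).hom r
  have hr : ¬ IsUnit r := fun hu => hq (by
    have := hu.map (W.left.presheaf.stalkSpecializes (specializes_of_eq himg.symm)).hom
    rwa [← RingHom.comp_apply, ← CommRingCat.hom_comp, TopCat.Presheaf.stalkSpecializes_comp] at this)
  have hq' : ¬ IsUnit q' := fun hu => hr ((isUnit_map_iff ((g ≫ b').left.stalkMap π).hom r).1 hu)
  have hmap : (funMap (g ≫ b').left).hom (rat W tq) = algebraMap (V.left.presheaf.stalk π) V.left.functionField q' := by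
    rw [htq, ← algebraMap_spec hsp q]
    exact funMap_algebraMap _ π r
  have hq0' : q' ≠ 0 := fun h0 => by
    rw [h0, map_zero] at hmap
    exact rat_ne_zero W tq ((map_eq_zero _).1 hmap)
  haveI := (hfact V π).2
  obtain ⟨k, n, hk, hu⟩ := exists_zpow hπ (rat_ne_zero V t) hq0' hq'
  refine ⟨k, n, hk, ?_⟩
  have h0 := evGerm_eq_zero ξ (k • t - n • ((J (X := X)).obj.map (g ≫ b').op).hom tq) z' (by
    rw [sub_eq_add_neg, rat_add, rat_neg, rat_nsmul, rat_zsmul, rat_map, hmap, ← div_eq_mul_inv]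
    exact hu)
  rw [map_sub, map_sub, map_nsmul, map_nsmul, map_zsmul, map_zsmul, sub_eq_zero, ← ha] at h0
  refine h0.trans (congrArg (n • ·) ?_)
  refine (congrArg (evGerm ξ z') (NatTrans.naturality_apply (toD (X := X)).hom (g ≫ b').op tq)).trans ?_
  rw [evGerm_map, hz]

end Local

end Groth.Agent.GmDiv
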