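import Groth.Agent.GmDiv.UnitAt
import Groth.Agent.EtFound.Basic
import Groth.Agent.AlgSpLib.EtLocalInst
import Groth.Prelude.Def_EtLim
import Mathlib.AlgebraicGeometry.Morphisms.QuasiFinite

/-!
# The sheaf of rational units on the small étale site
-/

set_option autoImplicit false
set_option linter.style.haveILetI false
set_option linter.unusedSectionVars false
set_option backward.isDefEq.respectTransparency false
set_option backward.isDefEq.respectTransparency.types false

universe u

open CategoryTheory CategoryTheory.Limits AlgebraicGeometry Opposite TopologicalSpace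

noncomputable section

namespace Groth.Agent.GmDiv

attribute [local instance] Abelian.hasFiniteBiproducts

variable (X : Scheme.{u})

/-- The generic points of a scheme. -/
abbrev Gen : Type u := {η : X // ∀ y : X, y ⤳ η → y = η}

theorem finite_gen [NoetherianSpace X] : Finite (Gen X) := by
  obtain ⟨S, hSf, hSc, hSi, hS⟩ := NoetherianSpace.exists_finite_set_isClosed_irreducible
    (isClosed_univ : IsClosed (Set.univ : Set X))
  have hfin : {η : X | ∀ y : X, y ⤳ η → y = η}.Finite := by
    refine Set.Finite.subset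
      (hSf.biUnion (t := fun C => {η : X | IsGenericPoint η C})
        fun C _ => Set.Subsingleton.finite fun a ha b hb => IsGenericPoint.eq ha hb) fun η hη => ?_
    obtain ⟨C, hC, hηC⟩ : ∃ C ∈ S, η ∈ C := Set.mem_sUnion.1 (hS.le trivial)
    obtain ⟨c, hc⟩ := QuasiSober.sober (hSi C hC) (hSc C hC)
    exact Set.mem_biUnion hC (hη c (hc.specializes hηC) ▸ hc)
  exact hfin.to_subtype

variable {X}

theorem flat_fromSpecStalk (x : X) : Flat (X.fromSpecStalk x) := by
  obtain ⟨U, hU, hxU, -⟩ := exists_isAffineOpen_mem_and_subset (show x ∈ (⊤ : X.Opens) from trivial)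
  rw [← hU.fromSpecStalk_eq_fromSpecStalk hxU, IsAffineOpen.fromSpecStalk]
  have : Flat (Spec.map (X.presheaf.germ U x hxU)) := by
    rw [HasRingHomProperty.Spec_iff (P := @Flat)]
    let : Algebra Γ(X, U) (X.presheaf.stalk x) := (X.presheaf.germ U x hxU).hom.toAlgebra
    have := hU.isLocalization_stalk ⟨x, hxU⟩
    exact IsLocalization.flat (X.presheaf.stalk x) (hU.primeIdealOf ⟨x, hxU⟩).asIdeal.primeCompl
  infer_instance

/-- The inclusion of a point. -/
abbrev ptI (x : X) : Spec (CommRingCat.of (X.residueField x)) ⟶ X := X.fromSpecResidueField x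

theorem flat_ptI (η : Gen X) [IsDomain (X.presheaf.stalk η.1)] : Flat (ptI η.1) := by
  have hone : ∀ P : PrimeSpectrum (X.presheaf.stalk η.1), X.fromSpecStalk η.1 P = η.1 := fun P =>
    η.2 _ ((Scheme.range_fromSpecStalk (x := η.1)).le ⟨P, rfl⟩)
  have hm : IsLocalRing.maximalIdeal (X.presheaf.stalk η.1) = ⊥ := by
    have := (X.fromSpecStalk η.1).isEmbedding.injective
      ((hone (IsLocalRing.closedPoint _)).trans (hone ⟨⊥, Ideal.isPrime_bot⟩).symm)
    exact congrArg PrimeSpectrum.asIdeal this
  have hbij : Function.Bijective (X.residue η.1).hom :=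
    ⟨(injective_iff_map_eq_zero _).2 fun a ha => by
      rw [← Ideal.mem_bot, ← hm]
      exact (IsLocalRing.residue_eq_zero_iff a).1 ha, IsLocalRing.residue_surjective⟩
  haveI : IsIso (X.residue η.1) := (ConcreteCategory.isIso_iff_bijective _).2 hbij
  haveI := flat_fromSpecStalk η.1
  show Flat (Spec.map (X.residue η.1) ≫ X.fromSpecStalk η.1)
  infer_instance

/-- The sheaf of rational units. -/
def J [Finite (Gen X)] : EtCoh.Ab X :=
  ⨁ fun η : Gen X => (EtCoh.push (ptI η.1)).obj (EtCoh.Gm (Spec (CommRingCat.of (X.residueField η.1))))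

/-- The canonical map to the rational units. -/
def gmToJ [Finite (Gen X)] : EtCoh.Gm X ⟶ J (X := X) := biproduct.lift fun η => EtLim.GmPush (ptI η.1)

/-- The underlying unit of a section of `ΓUnits`. -/
def uv {P : Scheme.{u}} (s : EtCoh.ΓUnits.obj (op P)) : Γ(P, ⊤)ˣ := Additive.toMul (s : ULift.{u+1} (Additive Γ(P, ⊤)ˣ)).down

theorem uv_injective {P : Scheme.{u}} : Function.Injective (uv (P := P)) := fun a b h => by
  exact ULift.ext _ _ (Additive.toMul.injective h)

theorem uv_surjective {P : Scheme.{u}} : Function.Surjective (uv (P := P)) := fun a =>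
  ⟨(⟨Additive.ofMul a⟩ : ULift.{u+1} (Additive Γ(P, ⊤)ˣ)), rfl⟩

theorem uv_zero {P : Scheme.{u}} : uv (0 : EtCoh.ΓUnits.obj (op P)) = 1 := rfl

theorem uv_add {P : Scheme.{u}} (a b : EtCoh.ΓUnits.obj (op P)) : uv (a + b) = uv a * uv b := rfl

theorem uv_map {P Q : Scheme.{u}} (f : Q ⟶ P) (s : EtCoh.ΓUnits.obj (op P)) :
    uv ((EtCoh.ΓUnits.map f.op).hom s) = Units.map f.appTop.hom.toMonoidHom (uv s) := rfl

theorem etale_generic {W W' : Scheme.{u}} (g : W' ⟶ W) [Etale g] [IsIntegral W'] [IsIntegral W] :
    g (genericPoint W') = genericPoint W := by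
  obtain ⟨y, hy, hy'⟩ := Flat.generalizingMap g
    ((genericPoint_spec W).specializes trivial : genericPoint W ⤳ g (genericPoint W'))
  rwa [show y = genericPoint W' from hy.antisymm ((genericPoint_spec W').specializes trivial) |>.eq] at hy'

/-- The pull back of rational functions along an étale morphism. -/
def funMap {W W' : Scheme.{u}} [IsIntegral W] [IsIntegral W'] (g : W' ⟶ W) [Etale g] :
    W.functionField ⟶ W'.functionField :=
  W.presheaf.stalkSpecializes (specializes_of_eq (etale_generic g)) ≫ g.stalkMap (genericPoint W')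

theorem funMap_algebraMap {W W' : Scheme.{u}} [IsIntegral W] [IsIntegral W'] (g : W' ⟶ W) [Etale g] (w' : W')
    (r : W.presheaf.stalk (g w')) :
    (funMap g).hom (algebraMap (W.presheaf.stalk (g w')) W.functionField r) =
      algebraMap (W'.presheaf.stalk w') W'.functionField ((g.stalkMap w').hom r) := by
  show (W.presheaf.stalkSpecializes _ ≫ W.presheaf.stalkSpecializes _ ≫ g.stalkMap (genericPoint W')).hom r =
    (g.stalkMap w' ≫ W'.presheaf.stalkSpecializes ((genericPoint_spec W').specializes trivial)).hom r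
  rw [← g.stalkSpecializes_stalkMap, TopCat.Presheaf.stalkSpecializes_comp_assoc]

theorem stalk_germ {W W' : Scheme.{u}} (g : W' ⟶ W) (x : W') {y : W} (h : g x = y) (U : W.Opens) (hy : y ∈ U) :
    W.presheaf.germ U y hy ≫ W.presheaf.stalkSpecializes (specializes_of_eq h) ≫ g.stalkMap x =
      g.app U ≫ W'.presheaf.germ (g ⁻¹ᵁ U) x (h.symm ▸ hy : g x ∈ U) := by
  subst h
  rw [TopCat.Presheaf.stalkSpecializes_refl, Category.id_comp, Scheme.Hom.germ_stalkMap]

theorem stalk_germ_top {W W' : Scheme.{u}} (g : W' ⟶ W) (x : W') {y : W} (h : g x = y) :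
    W.presheaf.germ ⊤ y trivial ≫ W.presheaf.stalkSpecializes (specializes_of_eq h) ≫ g.stalkMap x =
      g.appTop ≫ W'.presheaf.germ ⊤ x trivial := by
  subst h
  rw [TopCat.Presheaf.stalkSpecializes_refl, Category.id_comp]
  exact g.germ_stalkMap ⊤ x trivial

theorem funMap_germ {W W' : Scheme.{u}} [IsIntegral W] [IsIntegral W'] (g : W' ⟶ W) [Etale g] (u : Γ(W, ⊤)) :
    (funMap g).hom (W.presheaf.germ ⊤ (genericPoint W) trivial u) =
      W'.presheaf.germ ⊤ (genericPoint W') trivial (g.appTop.hom u) := by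
  have h := stalk_germ_top g (genericPoint W') (etale_generic g)
  generalize hF : funMap g = F
  unfold funMap at hF
  have h' : W.presheaf.germ ⊤ (genericPoint W) trivial ≫ F =
      g.appTop ≫ W'.presheaf.germ ⊤ (genericPoint W') trivial := hF ▸ h
  exact ConcreteCategory.congr_hom h' u

theorem surjective_spec_stalkMap {P W : Scheme.{u}} (f : P ⟶ W) [SurjectiveOnStalks f] (p : P) {y : W}
    (h : f p = y) : Function.Surjective (W.presheaf.stalkSpecializes (specializes_of_eq h) ≫ f.stalkMap p).hom := by
  subst h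
  rw [TopCat.Presheaf.stalkSpecializes_refl, Category.id_comp]
  exact f.stalkMap_surjective p

section Integral

variable (W : X.Etale) [IsIntegral W.left]

theorem etale_hom : Etale W.hom := W.prop

/-- The generic point below an integral étale scheme. -/
def etaOf : Gen X := ⟨W.hom (genericPoint W.left), fun y hy => by
  haveI := etale_hom W
  obtain ⟨ν', hν', rfl⟩ := Flat.generalizingMap W.hom hy
  rw [(hν'.antisymm ((genericPoint_spec W.left).specializes trivial)).eq]⟩

theorem eq_generic {η : Gen X} (p : (pullback W.hom (ptI η.1) : Scheme.{u})) :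
    η = etaOf W ∧ pullback.fst W.hom (ptI η.1) p = genericPoint W.left := by
  haveI := etale_hom W
  have hη : W.hom (pullback.fst W.hom (ptI η.1) p) = η.1 :=
    (Scheme.Hom.comp_apply (pullback.fst W.hom (ptI η.1)) W.hom p).symm.trans
      ((congrArg (fun f : (pullback W.hom (ptI η.1) : Scheme.{u}) ⟶ X => f p) pullback.condition).trans
        ((Scheme.Hom.comp_apply (pullback.snd W.hom (ptI η.1)) (ptI η.1) p).trans
          (Scheme.fromSpecResidueField_apply η.1 _)))
  have hs : (etaOf W).1 ⤳ η.1 :=
    hη ▸ ((genericPoint_spec W.left).specializes trivial : genericPoint W.left ⤳ pullback.fst W.hom (ptI η.1) p).map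
      W.hom.continuous
  have he : η = etaOf W := Subtype.ext (η.2 _ hs).symm
  refine ⟨he, ?_⟩
  have hd := W.hom.isDiscrete_preimage_singleton η.1
  haveI : DiscreteTopology (W.hom ⁻¹' {η.1} : Set W.left) := hd.to_subtype
  have hν : W.hom (genericPoint W.left) = η.1 := congrArg Subtype.val he.symm
  have : (⟨genericPoint W.left, hν⟩ : (W.hom ⁻¹' {η.1} : Set W.left)) ⤳ ⟨_, hη⟩ :=
    Topology.IsInducing.subtypeVal.specializes_iff.1 ((genericPoint_spec W.left).specializes trivial)
  exact (congrArg Subtype.val this.eq).symm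

variable [∀ η : Gen X, IsDomain (X.presheaf.stalk η.1)]

instance isPreimmersion_fst (η : Gen X) : IsPreimmersion (pullback.fst W.hom (ptI η.1)) :=
  MorphismProperty.pullback_fst _ _ (inferInstanceAs (IsPreimmersion (X.fromSpecResidueField η.1)))

/-- The fibre of an integral étale scheme over its generic point. -/
abbrev genFib : Scheme.{u} := pullback W.hom (ptI (etaOf W).1)

theorem exists_genFib_pt : ∃ p : genFib W, pullback.fst W.hom (ptI (etaOf W).1) p = genericPoint W.left := by
  obtain ⟨p, h, -⟩ := Scheme.Pullback.exists_preimage_pullback (f := W.hom) (g := ptI (etaOf W).1)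
    (genericPoint W.left) default (Scheme.fromSpecResidueField_apply _ _).symm
  exact ⟨p, h⟩

/-- The point of the generic fibre. -/
def genPt : genFib W := (exists_genFib_pt W).choose

theorem fst_genPt : pullback.fst W.hom (ptI (etaOf W).1) (genPt W) = genericPoint W.left :=
  (exists_genFib_pt W).choose_spec

theorem eq_genPt (p : genFib W) : p = genPt W :=
  (pullback.fst W.hom (ptI (etaOf W).1)).isEmbedding.injective ((eq_generic W p).2.trans (fst_genPt W).symm)

/-- The stalk comparison of the generic fibre. -/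
def cmpFld : W.left.functionField ⟶ (genFib W).presheaf.stalk (genPt W) :=
  W.left.presheaf.stalkSpecializes (specializes_of_eq (fst_genPt W)) ≫
    (pullback.fst W.hom (ptI (etaOf W).1)).stalkMap (genPt W)

theorem bijective_cmpFld : Function.Bijective (cmpFld W).hom :=
  ⟨RingHom.injective (R := W.left.functionField) (cmpFld W).hom,
    surjective_spec_stalkMap _ _ (fst_genPt W)⟩

theorem bijective_germ : Function.Bijective ((genFib W).presheaf.germ ⊤ (genPt W) trivial).hom := by
  refine ⟨fun s t h => TopCat.Presheaf.section_ext (genFib W).sheaf ⊤ s t fun x hx => ?_, fun y => ?_⟩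
  · obtain rfl := eq_genPt W x
    exact h
  · obtain ⟨U, hU, s, rfl⟩ := (genFib W).presheaf.exists_germ_eq y
    obtain rfl : U = ⊤ := Opens.ext (Set.eq_univ_of_forall fun x => eq_genPt W x ▸ hU)
    exact ⟨s, rfl⟩

/-- Rational functions as functions on the generic fibre. -/
def fibEquiv : Γ(genFib W, ⊤) ≃+* W.left.functionField :=
  (RingEquiv.ofBijective _ (bijective_germ W)).trans (RingEquiv.ofBijective _ (bijective_cmpFld W)).symm

theorem fibEquiv_fst (u : Γ(W.left, ⊤)) :
    fibEquiv W ((pullback.fst W.hom (ptI (etaOf W).1)).appTop.hom u) =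
      W.left.presheaf.germ ⊤ (genericPoint W.left) trivial u :=
  (RingEquiv.symm_apply_eq (RingEquiv.ofBijective _ (bijective_cmpFld W))).2
    (ConcreteCategory.congr_hom (stalk_germ (pullback.fst W.hom (ptI (etaOf W).1)) (genPt W) (fst_genPt W) ⊤ trivial) u).symm

variable [Finite (Gen X)]

/-- The component at the generic point. -/
def comp (s : (J (X := X)).obj.obj (op W)) : EtCoh.ΓUnits.obj (op (genFib W)) :=
  ((biproduct.π (fun η : Gen X => (EtCoh.push (ptI η.1)).obj (EtCoh.Gm _)) (etaOf W)).hom.app (op W)).hom s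

/-- The rational function of a section. -/
def rat (s : (J (X := X)).obj.obj (op W)) : W.left.functionField := fibEquiv W (uv (comp W s) : Γ(genFib W, ⊤))

theorem rat_ne_zero (s : (J (X := X)).obj.obj (op W)) : rat W s ≠ 0 :=
  ((uv (comp W s)).isUnit.map (fibEquiv W)).ne_zero

theorem rat_zero : rat W 0 = 1 := by
  rw [rat, comp, map_zero]
  exact map_one (fibEquiv W)

theorem rat_add (s t : (J (X := X)).obj.obj (op W)) : rat W (s + t) = rat W s * rat W t := by
  rw [rat, comp, map_add]
  exact map_mul (fibEquiv W) _ _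

theorem rat_neg (s : (J (X := X)).obj.obj (op W)) : rat W (-s) = (rat W s)⁻¹ :=
  eq_inv_of_mul_eq_one_left (by rw [← rat_add, neg_add_cancel, rat_zero])

theorem rat_zsmul (n : ℤ) (s : (J (X := X)).obj.obj (op W)) : rat W (n • s) = rat W s ^ n := by
  induction n with
  | zero => rw [zero_smul, rat_zero, zpow_zero]
  | succ i hi => rw [add_zsmul, one_zsmul, rat_add, hi, zpow_add_one₀ (rat_ne_zero W s)]
  | pred i hi => rw [sub_zsmul, one_zsmul, sub_eq_add_neg, rat_add, hi, rat_neg,
      zpow_add₀ (rat_ne_zero W s), zpow_neg_one]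

theorem rat_nsmul (n : ℕ) (s : (J (X := X)).obj.obj (op W)) : rat W (n • s) = rat W s ^ n := by
  rw [← natCast_zsmul, rat_zsmul, zpow_natCast]

theorem rat_gm (u : (EtCoh.Gm X).obj.obj (op W)) :
    rat W ((gmToJ.hom.app (op W)).hom u) =
      W.left.presheaf.germ ⊤ (genericPoint W.left) trivial (uv (P := W.left) u : Γ(W.left, ⊤)) := by
  refine Eq.trans ?_ (fibEquiv_fst W _)
  refine congrArg (fibEquiv W) ?_
  refine Eq.trans (congrArg (fun v : EtCoh.ΓUnits.obj (op (genFib W)) => (uv v : Γ(genFib W, ⊤))) ?_)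
    (congrArg Units.val (uv_map (pullback.fst W.hom (ptI (etaOf W).1)) u))
  show ((gmToJ ≫ biproduct.π _ (etaOf W)).hom.app (op W)).hom u = _
  rw [gmToJ, biproduct.lift_π]
  rfl

theorem rat_surjective {f : W.left.functionField} (hf : f ≠ 0) : ∃ s, rat W s = f := by
  obtain ⟨v, hv⟩ := uv_surjective (IsUnit.unit ((IsUnit.mk0 f hf).map (fibEquiv W).symm))
  refine ⟨((biproduct.ι (fun η : Gen X => (EtCoh.push (ptI η.1)).obj (EtCoh.Gm _)) (etaOf W)).hom.app (op W)).hom v, ?_⟩
  refine Eq.trans ?_ ((fibEquiv W).apply_symm_apply f)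
  refine congrArg (fibEquiv W) (Eq.trans ?_ (congrArg Units.val hv))
  refine congrArg (fun v : EtCoh.ΓUnits.obj (op (genFib W)) => (uv v : Γ(genFib W, ⊤))) ?_
  show ((biproduct.ι (fun η : Gen X => (EtCoh.push (ptI η.1)).obj (EtCoh.Gm _)) (etaOf W) ≫
    biproduct.π _ (etaOf W)).hom.app (op W)).hom v = _
  rw [biproduct.ι_π_self]
  rfl

theorem rat_injective : Function.Injective (rat W) := by
  intro s t h
  have hc : comp W s = comp W t := uv_injective (Units.ext ((fibEquiv W).injective h))
  have hall : ∀ η : Gen X, ((biproduct.π (fun η : Gen X => (EtCoh.push (ptI η.1)).obj (EtCoh.Gm _)) η).hom.app (op W)).hom s =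
      ((biproduct.π (fun η : Gen X => (EtCoh.push (ptI η.1)).obj (EtCoh.Gm _)) η).hom.app (op W)).hom t := fun η => by
    by_cases he : η = etaOf W
    · subst he
      exact hc
    · refine uv_injective (P := pullback W.hom (ptI η.1)) (Units.ext ?_)
      exact TopCat.Presheaf.section_ext (pullback W.hom (ptI η.1) : Scheme.{u}).sheaf ⊤ _ _
        fun x _ => absurd (eq_generic W x).1 he
  haveI := Fintype.ofFinite (Gen X)
  let ev : EtCoh.Ab X ⥤ AddCommGrpCat.{u + 1} :=
    sheafToPresheaf X.smallEtaleTopology AddCommGrpCat.{u + 1} ⋙ (evaluation _ _).obj (op W)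
  have ht : (∑ η : Gen X, biproduct.π (fun η : Gen X => (EtCoh.push (ptI η.1)).obj
      (EtCoh.Gm (Spec (CommRingCat.of (X.residueField η.1))))) η ≫ biproduct.ι (fun η : Gen X => (EtCoh.push (ptI η.1)).obj
      (EtCoh.Gm (Spec (CommRingCat.of (X.residueField η.1))))) η) = 𝟙 (J (X := X)) := by
    classical
    refine biproduct.hom_ext _ _ fun k => ?_
    simp [Preadditive.sum_comp, biproduct.ι_π, comp_dite, J]
  have e : ∀ z, z = ∑ η : Gen X, ((biproduct.ι (fun η : Gen X => (EtCoh.push (ptI η.1)).obj (EtCoh.Gm _)) η).hom.app (op W)).hom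
      (((biproduct.π (fun η : Gen X => (EtCoh.push (ptI η.1)).obj (EtCoh.Gm _)) η).hom.app (op W)).hom z) := fun z => by
    let Φ : (J (X := X) ⟶ J (X := X)) →+ (J (X := X)).obj.obj (op W) := AddMonoidHom.mk' (fun f => (f.hom.app (op W)).hom z) (fun _ _ => rfl)
    have := congrArg Φ ht
    rw [map_sum] at this
    exact this.symm
  rw [e s, e t]
  exact Finset.sum_congr rfl fun η _ => congrArg _ (hall η)

/-- The defining property of the rational function of a section. -/
theorem rat_spec (s : (J (X := X)).obj.obj (op W)) (η : Gen X) (p : (pullback W.hom (ptI η.1) : Scheme.{u})) :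
    (W.left.presheaf.stalkSpecializes (specializes_of_eq (eq_generic W p).2) ≫
        (pullback.fst W.hom (ptI η.1)).stalkMap p).hom (rat W s) =
      (pullback W.hom (ptI η.1) : Scheme.{u}).presheaf.germ ⊤ p trivial
        (uv (P := pullback W.hom (ptI η.1))
          (((biproduct.π (fun η : Gen X => (EtCoh.push (ptI η.1)).obj (EtCoh.Gm _)) η).hom.app (op W)).hom s) : Γ(_, ⊤)) := by
  obtain rfl := (eq_generic W p).1
  obtain rfl := eq_genPt W p
  exact (RingEquiv.ofBijective _ (bijective_cmpFld W)).apply_symm_apply _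

theorem stalkMap_congr' {P Q : Scheme.{u}} {a b : P ⟶ Q} (h : a = b) (p : P) {y : Q} (ha : a p ⤳ y) (hb : b p ⤳ y) :
    Q.presheaf.stalkSpecializes ha ≫ a.stalkMap p = Q.presheaf.stalkSpecializes hb ≫ b.stalkMap p := by
  cases h
  rfl

theorem rat_map {W' : X.Etale} [IsIntegral W'.left] (g : W' ⟶ W) [Etale g.left]
    (s : (J (X := X)).obj.obj (op W)) :
    rat W' (((J (X := X)).obj.map g.op).hom s) = (funMap g.left).hom (rat W s) := by
  let η := etaOf W'
  let i := ptI η.1
  let p' := genPt W'
  let a : (pullback W'.hom i : Scheme.{u}) ⟶ pullback W.hom i := ((EtCoh.bc i).map g).left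
  have ha : a ≫ pullback.fst W.hom i = pullback.fst W'.hom i ≫ g.left := (EtCoh.isPullback_bc_map i g).w
  apply (bijective_cmpFld W').1
  refine (rat_spec W' _ η p').trans ?_
  have h1 := rat_spec W s η (a p')
  have h2 : ((biproduct.π (fun η : Gen X => (EtCoh.push (ptI η.1)).obj (EtCoh.Gm _)) η).hom.app (op W')).hom
      (((J (X := X)).obj.map g.op).hom s) = (EtCoh.ΓUnits.map a.op).hom
      (((biproduct.π (fun η : Gen X => (EtCoh.push (ptI η.1)).obj (EtCoh.Gm _)) η).hom.app (op W)).hom s) :=
    NatTrans.naturality_apply (biproduct.π (fun η : Gen X => (EtCoh.push (ptI η.1)).obj (EtCoh.Gm _)) η).hom g.op s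
  rw [h2, uv_map]
  refine (Scheme.Hom.germ_stalkMap_apply a ⊤ p' trivial _).symm.trans ?_
  refine (congrArg (a.stalkMap p').hom h1.symm).trans ?_
  have hfst := (eq_generic W' p').2
  have e1 : (a ≫ pullback.fst W.hom i) p' ⤳ genericPoint W.left :=
    specializes_of_eq ((Scheme.Hom.comp_apply _ _ _).trans (eq_generic W (a p')).2)
  have e2 : (pullback.fst W'.hom i ≫ g.left) p' ⤳ genericPoint W.left :=
    specializes_of_eq ((Scheme.Hom.comp_apply _ _ _).trans ((congrArg g.left hfst).trans (etale_generic g.left)))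
  have hc := stalkMap_congr' ha p' e1 e2
  rw [Scheme.Hom.stalkMap_comp, Scheme.Hom.stalkMap_comp] at hc
  show (((W.left.presheaf.stalkSpecializes _) ≫ (pullback.fst W.hom i).stalkMap (a p')) ≫ a.stalkMap p').hom _ =
    ((W.left.presheaf.stalkSpecializes _ ≫ g.left.stalkMap (genericPoint W'.left)) ≫
      W'.left.presheaf.stalkSpecializes _ ≫ (pullback.fst W'.hom i).stalkMap p').hom _
  refine ConcreteCategory.congr_hom ((Category.assoc _ _ _).trans (hc.trans ?_)) _
  rw [Category.assoc, ← g.left.stalkSpecializes_stalkMap_assoc (pullback.fst W'.hom i p') (genericPoint W'.left)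
    (specializes_of_eq hfst), TopCat.Presheaf.stalkSpecializes_comp_assoc]
  rfl

end Integral

end Groth.Agent.GmDiv
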