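import Mathlib.AlgebraicGeometry.FunctionField
import Mathlib.AlgebraicGeometry.Noetherian
import Mathlib.AlgebraicGeometry.Morphisms.Flat
import Mathlib.AlgebraicGeometry.Morphisms.Preimmersion
import Mathlib.RingTheory.UniqueFactorizationDomain.Ideal
import Mathlib.RingTheory.Localization.NumDen
import Mathlib.RingTheory.Flat.FaithfullyFlat.Algebra

/-!
# Units of rational functions on integral schemes with factorial local rings
-/

set_option autoImplicit false
set_option linter.style.haveILetI false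
set_option linter.unusedSectionVars false

universe u

open CategoryTheory AlgebraicGeometry TopologicalSpace IsLocalRing

noncomputable section

namespace Groth.Agent.GmDiv

variable {W : Scheme.{u}} [IsIntegral W]

/-- A rational function is a unit at a point. -/
def UnitAt (f : W.functionField) (w : W) : Prop :=
  ∃ a : (W.presheaf.stalk w)ˣ, algebraMap (W.presheaf.stalk w) W.functionField a = f

/-- A point of height one. -/
def IsH1 (w : W) : Prop :=
  w ≠ genericPoint W ∧ ∀ y : W, y ⤳ w → y = w ∨ y = genericPoint W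

/-- The prime of the local ring attached to a generalisation. -/
def primeAt {y w : W} (h : y ⤳ w) : PrimeSpectrum (W.presheaf.stalk w) :=
  Spec.map (W.presheaf.stalkSpecializes h) (closedPoint (W.presheaf.stalk y))

theorem fromSpecStalk_primeAt {y w : W} (h : y ⤳ w) : W.fromSpecStalk w (primeAt h) = y := by
  show (Spec.map (W.presheaf.stalkSpecializes h) ≫ W.fromSpecStalk w) (closedPoint (W.presheaf.stalk y)) = y
  rw [Scheme.SpecMap_stalkSpecializes_fromSpecStalk]
  exact Scheme.fromSpecStalk_closedPoint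

theorem specializes_of_prime {w : W} (Q : PrimeSpectrum (W.presheaf.stalk w)) : W.fromSpecStalk w Q ⤳ w :=
  (Scheme.range_fromSpecStalk (x := w)).le ⟨Q, rfl⟩

theorem eq_primeAt {w : W} (Q : PrimeSpectrum (W.presheaf.stalk w)) {y : W} (h : y ⤳ w)
    (e : W.fromSpecStalk w Q = y) : Q = primeAt h :=
  (W.fromSpecStalk w).isEmbedding.injective (e.trans (fromSpecStalk_primeAt h).symm)

theorem le_iff_specializes {w : W} (P Q : PrimeSpectrum (W.presheaf.stalk w)) :
    P ≤ Q ↔ W.fromSpecStalk w P ⤳ W.fromSpecStalk w Q :=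
  (PrimeSpectrum.le_iff_specializes P Q).trans
    (W.fromSpecStalk w).isEmbedding.toIsInducing.specializes_iff.symm

theorem mem_primeAt {y w : W} (h : y ⤳ w) (r : W.presheaf.stalk w) :
    r ∈ (primeAt h).asIdeal ↔ ¬ IsUnit ((W.presheaf.stalkSpecializes h).hom r) :=
  (IsLocalRing.mem_maximalIdeal _).trans mem_nonunits_iff

theorem algebraMap_spec {y w : W} (h : y ⤳ w) (r : W.presheaf.stalk w) :
    algebraMap (W.presheaf.stalk y) W.functionField ((W.presheaf.stalkSpecializes h).hom r) =
      algebraMap (W.presheaf.stalk w) W.functionField r := by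
  show (W.presheaf.stalkSpecializes h ≫ W.presheaf.stalkSpecializes
    ((genericPoint_spec W).specializes trivial)).hom r = _
  rw [TopCat.Presheaf.stalkSpecializes_comp]
  rfl

theorem primeAt_generic_eq_bot {w : W} :
    (primeAt ((genericPoint_spec W).specializes trivial : genericPoint W ⤳ w)).asIdeal = ⊥ := by
  refine (Submodule.eq_bot_iff _).2 fun r hr => ?_
  by_contra hne
  refine (mem_primeAt _ r).1 hr (IsUnit.mk0 (G₀ := W.functionField) _ fun h0 => hne ?_)
  exact IsFractionRing.injective (W.presheaf.stalk w) W.functionField (h0.trans (map_zero _).symm)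

theorem UnitAt.ne_zero {f : W.functionField} {w : W} (h : UnitAt f w) : f ≠ 0 := by
  obtain ⟨a, rfl⟩ := h
  exact (map_ne_zero_iff _ (IsFractionRing.injective (W.presheaf.stalk w) W.functionField)).2 a.ne_zero

theorem UnitAt.one (w : W) : UnitAt (1 : W.functionField) w := ⟨1, by simp⟩

theorem UnitAt.mul {f g : W.functionField} {w : W} (hf : UnitAt f w) (hg : UnitAt g w) : UnitAt (f * g) w := by
  obtain ⟨a, rfl⟩ := hf
  obtain ⟨b, rfl⟩ := hg
  exact ⟨a * b, by simp⟩

theorem UnitAt.inv {f : W.functionField} {w : W} (hf : UnitAt f w) : UnitAt f⁻¹ w := by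
  obtain ⟨a, rfl⟩ := hf
  exact ⟨a⁻¹, map_units_inv _ _⟩

theorem UnitAt.zpow {f : W.functionField} {w : W} (hf : UnitAt f w) (n : ℤ) : UnitAt (f ^ n) w := by
  induction n with
  | zero => simpa using UnitAt.one w
  | succ i hi => rw [zpow_add_one₀ hf.ne_zero]; exact hi.mul hf
  | pred i hi => rw [zpow_sub_one₀ hf.ne_zero]; exact hi.mul hf.inv

theorem UnitAt.of_specializes {f : W.functionField} {y w : W} (h : y ⤳ w) (hf : UnitAt f w) : UnitAt f y := by
  obtain ⟨a, rfl⟩ := hf
  exact ⟨Units.map (W.presheaf.stalkSpecializes h).hom.toMonoidHom a, algebraMap_spec h _⟩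

theorem unitAt_generic {f : W.functionField} (hf : f ≠ 0) : UnitAt f (genericPoint W) := by
  refine ⟨Units.mk0 (G₀ := W.functionField) f hf, ?_⟩
  show (W.presheaf.stalkSpecializes _).hom f = f
  rw [TopCat.Presheaf.stalkSpecializes_refl]
  rfl

theorem germ_generic {U : W.Opens} {w : W} (hw : w ∈ U) (g : Γ(W, U)) :
    algebraMap (W.presheaf.stalk w) W.functionField (W.presheaf.germ U w hw g) =
      W.presheaf.germ U (genericPoint W)
        (((genericPoint_spec W).mem_open_set_iff U.isOpen).2 ⟨w, trivial, hw⟩) g := by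
  show (W.presheaf.germ U w hw ≫ W.presheaf.stalkSpecializes _).hom g = _
  rw [TopCat.Presheaf.germ_stalkSpecializes]

/-- A rational function which is a unit at a point is the germ of a unit section nearby. -/
theorem UnitAt.exists_section {f : W.functionField} {w : W} (hf : UnitAt f w) :
    ∃ (U : W.Opens) (hw : w ∈ U) (g : Γ(W, U)ˣ),
      algebraMap (W.presheaf.stalk w) W.functionField (W.presheaf.germ U w hw g) = f := by
  obtain ⟨a, rfl⟩ := hf
  obtain ⟨U, hU, g, hg⟩ := W.presheaf.exists_germ_eq (a : W.presheaf.stalk w)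
  have hb : w ∈ W.basicOpen g := by
    rw [Scheme.mem_basicOpen _ _ _ hU, hg]
    exact a.isUnit
  refine ⟨W.basicOpen g, hb, (RingedSpace.isUnit_res_basicOpen _ g).unit, ?_⟩
  rw [IsUnit.unit_spec]
  refine congrArg _ ((W.presheaf.germ_res_apply _ _ _ g).trans hg)

theorem isOpen_unitAt (f : W.functionField) : IsOpen {w : W | UnitAt f w} := by
  refine isOpen_iff_forall_mem_open.2 fun w hw => ?_
  obtain ⟨U, hU, g, rfl⟩ := UnitAt.exists_section hw
  refine ⟨U, fun y hy => ⟨Units.map (W.presheaf.germ U y hy).hom.toMonoidHom g, ?_⟩, U.isOpen, hU⟩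
  exact (germ_generic hy _).trans (germ_generic hU _).symm

/-- Finitely many height one points fail to be units. -/
theorem finite_not_unitAt [NoetherianSpace W] {f : W.functionField} (hf : f ≠ 0) :
    {π : W | IsH1 π ∧ ¬ UnitAt f π}.Finite := by
  obtain ⟨S, hSf, hSc, hSi, hS⟩ := NoetherianSpace.exists_finite_set_isClosed_irreducible
    (isOpen_unitAt f).isClosed_compl
  refine Set.Finite.subset
    (hSf.biUnion (t := fun C => {π : W | IsGenericPoint π C})
      fun C _ => Set.Subsingleton.finite fun a ha b hb => IsGenericPoint.eq ha hb) fun π hπ => ?_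
  obtain ⟨C, hC, hπC⟩ : ∃ C ∈ S, π ∈ C := Set.mem_sUnion.1 (hS.le hπ.2)
  obtain ⟨c, hc⟩ := QuasiSober.sober (hSi C hC) (hSc C hC)
  refine Set.mem_biUnion hC ?_
  rcases hπ.1.2 c (hc.specializes hπC) with rfl | rfl
  · exact hc
  · exact absurd (unitAt_generic hf) (hS.ge (Set.mem_sUnion.2 ⟨C, hC, hc.mem⟩))

/-- Algebraic Hartogs: units at all height one generalisations are units. -/
theorem unitAt_of_h1 {w : W} [UniqueFactorizationMonoid (W.presheaf.stalk w)] {f : W.functionField} (hf : f ≠ 0)
    (h : ∀ π : W, π ⤳ w → IsH1 π → UnitAt f π) : UnitAt f w := by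
  let R := W.presheaf.stalk w
  have key : ∀ c d : R, IsRelPrime c d → c ≠ 0 → d ≠ 0 →
      (∀ π : W, π ⤳ w → IsH1 π → UnitAt (algebraMap R W.functionField c / algebraMap R W.functionField d) π) →
      IsUnit d := by
    intro c d hcd hc hd hu
    by_contra hnd
    obtain ⟨p, hp, hpd⟩ := WfDvdMonoid.exists_irreducible_factor hnd hd
    have hp' : Prime p := UniqueFactorizationMonoid.irreducible_iff_prime.1 hp
    haveI : (Ideal.span {p}).IsPrime := (Ideal.span_singleton_prime hp'.ne_zero).2 hp'
    let Q : PrimeSpectrum R := ⟨Ideal.span {p}, inferInstance⟩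
    have hQw : W.fromSpecStalk w Q ⤳ w := specializes_of_prime Q
    have hQ : Q = primeAt hQw := eq_primeAt Q _ rfl
    have hgen : W.fromSpecStalk w Q ≠ genericPoint W := fun e => hp'.ne_zero (by
      have := congrArg PrimeSpectrum.asIdeal (eq_primeAt Q ((genericPoint_spec W).specializes trivial) e)
      exact (Submodule.eq_bot_iff _).1 (this.trans primeAt_generic_eq_bot) p (Ideal.mem_span_singleton_self p))
    have h1 : IsH1 (W.fromSpecStalk w Q) := by
      refine ⟨hgen, fun y hy => ?_⟩
      have hyw : y ⤳ w := hy.trans hQw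
      have hle : primeAt hyw ≤ Q := by
        rw [le_iff_specializes, fromSpecStalk_primeAt]; exact hy
      by_cases hb : (primeAt hyw).asIdeal = ⊥
      · right
        have : primeAt hyw = primeAt ((genericPoint_spec W).specializes trivial : genericPoint W ⤳ w) :=
          PrimeSpectrum.ext (hb.trans primeAt_generic_eq_bot.symm)
        rw [← fromSpecStalk_primeAt hyw, this, fromSpecStalk_primeAt]
      · left
        obtain ⟨q, hq, hqp⟩ := Ideal.IsPrime.exists_mem_prime_of_ne_bot (primeAt hyw).2 hb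
        have hass : Associated p q :=
          hp'.associated_of_dvd hqp (Ideal.mem_span_singleton.1 (hle hq))
        have : Q ≤ primeAt hyw := (Ideal.span_singleton_le_iff_mem _).2 (Ideal.mem_of_dvd _ hass.symm.dvd hq)
        rw [← fromSpecStalk_primeAt hyw, le_antisymm hle this]
    obtain ⟨a, ha⟩ := hu _ hQw h1
    have hinj := IsFractionRing.injective (W.presheaf.stalk (W.fromSpecStalk w Q)) W.functionField
    have hd' : algebraMap R W.functionField d ≠ 0 :=
      (map_ne_zero_iff _ (IsFractionRing.injective R W.functionField)).2 hd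
    have heq : (a : W.presheaf.stalk (W.fromSpecStalk w Q)) * (W.presheaf.stalkSpecializes hQw).hom d =
        (W.presheaf.stalkSpecializes hQw).hom c := hinj (by
      rw [map_mul, algebraMap_spec, algebraMap_spec, ha, div_mul_cancel₀ _ hd'])
    have hdm : ¬ IsUnit ((W.presheaf.stalkSpecializes hQw).hom d) :=
      (mem_primeAt hQw d).1 (hQ ▸ Ideal.mem_span_singleton.2 hpd)
    have hcm : c ∈ (primeAt hQw).asIdeal := (mem_primeAt hQw c).2 fun hcu => hdm (by
      rw [← heq] at hcu; exact (IsUnit.mul_iff.1 hcu).2)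
    exact hp.not_isUnit (hcd (Ideal.mem_span_singleton.1 (hQ ▸ hcm : c ∈ Q.asIdeal)) hpd)
  obtain ⟨c, d, hcd, hcdf⟩ := IsFractionRing.exists_reduced_fraction R f
  have hd : (d : R) ≠ 0 := nonZeroDivisors.ne_zero d.2
  have hfd : algebraMap R W.functionField c / algebraMap R W.functionField d = f := by
    rw [← hcdf, IsFractionRing.mk'_eq_div]
  have hc : c ≠ 0 := fun e => hf (by rw [← hfd, e, map_zero, zero_div])
  have hdu := key c d hcd hc hd (fun π h1 h2 => hfd ▸ h π h1 h2)
  have hcu := key d c hcd.symm hd hc (fun π h1 h2 => by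
    rw [← inv_div, hfd]; exact (h π h1 h2).inv)
  refine ⟨hcu.unit * hdu.unit⁻¹, ?_⟩
  rw [Units.val_mul, map_mul, map_units_inv, IsUnit.unit_spec, IsUnit.unit_spec, ← div_eq_mul_inv, hfd]

/-- A height one point is cut out by one function near any of its specialisations. -/
theorem exists_equation {π w : W} (h : π ⤳ w) (h1 : IsH1 π) [UniqueFactorizationMonoid (W.presheaf.stalk w)] :
    ∃ q : W.presheaf.stalk w, q ≠ 0 ∧ ¬ IsUnit ((W.presheaf.stalkSpecializes h).hom q) ∧
      ∀ π' : W, π' ⤳ w → IsH1 π' → π' ≠ π → UnitAt (algebraMap _ W.functionField q) π' := by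
  have hb : (primeAt h).asIdeal ≠ ⊥ := fun e => h1.1 (by
    have : primeAt h = primeAt ((genericPoint_spec W).specializes trivial : genericPoint W ⤳ w) :=
      PrimeSpectrum.ext (e.trans primeAt_generic_eq_bot.symm)
    rw [← fromSpecStalk_primeAt h, this, fromSpecStalk_primeAt])
  obtain ⟨q, hq, hqp⟩ := Ideal.IsPrime.exists_mem_prime_of_ne_bot (primeAt h).2 hb
  haveI : (Ideal.span {q}).IsPrime := (Ideal.span_singleton_prime hqp.ne_zero).2 hqp
  let Q : PrimeSpectrum (W.presheaf.stalk w) := ⟨Ideal.span {q}, inferInstance⟩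
  have hQ : W.fromSpecStalk w Q = π := by
    have hle : Q ≤ primeAt h := (Ideal.span_singleton_le_iff_mem _).2 hq
    rw [le_iff_specializes, fromSpecStalk_primeAt] at hle
    refine (h1.2 _ hle).resolve_right fun e => hqp.ne_zero ?_
    have := congrArg PrimeSpectrum.asIdeal (eq_primeAt Q ((genericPoint_spec W).specializes trivial) e)
    exact (Submodule.eq_bot_iff _).1 (this.trans primeAt_generic_eq_bot) q (Ideal.mem_span_singleton_self q)
  refine ⟨q, hqp.ne_zero, (mem_primeAt h q).1 hq, fun π' hπ' h1' hne => ?_⟩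
  have hu : IsUnit ((W.presheaf.stalkSpecializes hπ').hom q) := by
    by_contra hnu
    have hle : Q ≤ primeAt hπ' := (Ideal.span_singleton_le_iff_mem _).2 ((mem_primeAt hπ' q).2 hnu)
    rw [le_iff_specializes, fromSpecStalk_primeAt, hQ] at hle
    exact (h1'.2 π hle).elim (fun e => hne e.symm) h1.1
  exact ⟨hu.unit, algebraMap_spec hπ' q⟩

/-- At a height one point some power of any rational function is a unit times a power of a given nonunit. -/
theorem exists_zpow {π : W} (h1 : IsH1 π) [UniqueFactorizationMonoid (W.presheaf.stalk π)] {f : W.functionField}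
    (hf : f ≠ 0) {q : W.presheaf.stalk π} (hq0 : q ≠ 0) (hq : ¬ IsUnit q) :
    ∃ (k : ℕ) (n : ℤ), 0 < k ∧ UnitAt (f ^ k / algebraMap _ W.functionField q ^ n) π := by
  let R := W.presheaf.stalk π
  let φ := algebraMap R W.functionField
  have hinj : Function.Injective φ := IsFractionRing.injective R W.functionField
  obtain ⟨p, hp, hpq⟩ := WfDvdMonoid.exists_irreducible_factor hq hq0
  have hp' : Prime p := UniqueFactorizationMonoid.irreducible_iff_prime.1 hp
  have hass : ∀ {r : R}, Irreducible r → Associated r p := fun {r} hr => by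
    have hr' : Prime r := UniqueFactorizationMonoid.irreducible_iff_prime.1 hr
    have hmax : ∀ {s : R}, Prime s → Ideal.span {s} = (primeAt (specializes_refl π)).asIdeal := fun {s} hs => by
      haveI : (Ideal.span {s}).IsPrime := (Ideal.span_singleton_prime hs.ne_zero).2 hs
      let Q : PrimeSpectrum R := ⟨Ideal.span {s}, inferInstance⟩
      rcases h1.2 _ (specializes_of_prime Q) with e | e
      · exact congrArg PrimeSpectrum.asIdeal (eq_primeAt Q (specializes_refl π) e)
      · exact absurd ((Submodule.eq_bot_iff _).1 ((congrArg PrimeSpectrum.asIdeal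
          (eq_primeAt Q ((genericPoint_spec W).specializes trivial) e)).trans primeAt_generic_eq_bot) s
          (Ideal.mem_span_singleton_self s)) hs.ne_zero
    exact Ideal.span_singleton_eq_span_singleton.1 ((hmax hr').trans (hmax hp').symm)
  have hpow : ∀ r : R, r ≠ 0 → ∃ (m : ℕ) (a : Rˣ), r = a * p ^ m := fun r hr => by
    refine WfDvdMonoid.induction_on_irreducible r (motive := fun r => r ≠ 0 → ∃ (m : ℕ) (a : Rˣ), r = a * p ^ m)
      (fun h => absurd rfl h) (fun r hr _ => ⟨0, hr.unit, by simp⟩)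
      (fun a i ha hi ih _ => ?_) hr
    obtain ⟨m, b, rfl⟩ := ih ha
    obtain ⟨c, hc⟩ := (hass hi).symm
    exact ⟨m + 1, c * b, by rw [← hc, Units.val_mul]; ring⟩
  obtain ⟨c, d, -, hcdf⟩ := IsFractionRing.exists_reduced_fraction R f
  have hd : (d : R) ≠ 0 := nonZeroDivisors.ne_zero d.2
  have hfd : φ c / φ d = f := by rw [← hcdf, IsFractionRing.mk'_eq_div]
  have hc : c ≠ 0 := fun e => hf (by rw [← hfd, e, map_zero, zero_div])
  obtain ⟨i, a, rfl⟩ := hpow c hc
  obtain ⟨j, b, hb⟩ := hpow d hd
  obtain ⟨m, e, rfl⟩ := hpow q hq0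
  have hm : 0 < m := Nat.pos_of_ne_zero fun h0 => hq (by simp [h0])
  refine ⟨m, (i : ℤ) - j, hm, a ^ m / b ^ m * (e ^ ((i : ℤ) - j))⁻¹, ?_⟩
  have hp0 : φ p ≠ 0 := (map_ne_zero_iff _ hinj).2 hp'.ne_zero
  have hu : ∀ x : Rˣ, φ x ≠ 0 := fun x => (map_ne_zero_iff _ hinj).2 x.ne_zero
  let ψ : Rˣ →* W.functionFieldˣ := Units.map φ.toMonoidHom
  have hψ : ∀ x : Rˣ, φ x = (ψ x : W.functionField) := fun x => rfl
  show φ ((a ^ m / b ^ m * (e ^ ((i : ℤ) - j))⁻¹ : Rˣ) : R) = f ^ m / φ (e * p ^ m) ^ ((i : ℤ) - j)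
  rw [← hfd, hψ, map_mul, map_div, map_inv, map_pow, map_pow, map_zpow, Units.val_mul, Units.val_div_eq_div_val,
    Units.val_inv_eq_inv_val, Units.val_pow_eq_pow_val, Units.val_pow_eq_pow_val, Units.val_zpow_eq_zpow_val,
    ← hψ, ← hψ, ← hψ, hb, map_mul, map_mul, map_mul, map_pow, map_pow, map_pow, mul_zpow, div_pow, mul_pow,
    mul_pow, ← pow_mul, ← pow_mul, ← zpow_natCast (φ p) m, ← zpow_mul,
    show ((m : ℤ) * ((i : ℤ) - j)) = ((i * m : ℕ) : ℤ) - ((j * m : ℕ) : ℤ) by push_cast; ring,
    zpow_sub₀ hp0, zpow_natCast, zpow_natCast]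
  have h1 := hu b
  have h2 : φ e ^ ((i : ℤ) - j) ≠ 0 := zpow_ne_zero _ (hu e)
  field_simp

/-- Descent of units along flat morphisms of integral schemes. -/
theorem unitAt_of_flat {W' : Scheme.{u}} [IsIntegral W'] (g : W' ⟶ W) [Flat g] (w' : W')
    (θ : W.functionField →+* W'.functionField)
    (hθ : ∀ r, θ (algebraMap (W.presheaf.stalk (g w')) W.functionField r) =
      algebraMap (W'.presheaf.stalk w') W'.functionField ((g.stalkMap w').hom r))
    {f : W.functionField} (hf : UnitAt (θ f) w') : UnitAt f (g w') := by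
  obtain ⟨a, ha⟩ := hf
  let R := W.presheaf.stalk (g w')
  let S := W'.presheaf.stalk w'
  algebraize [(g.stalkMap w').hom]
  haveI : Module.Flat R S := Flat.stalkMap g w'
  haveI : IsLocalHom (algebraMap R S) := g.toLRSHom.prop w'
  haveI : Module.FaithfullyFlat R S := Module.FaithfullyFlat.of_flat_of_isLocalHom
  have hinj := IsFractionRing.injective S W'.functionField
  obtain ⟨c, d, hcdf⟩ := IsLocalization.exists_mk'_eq (nonZeroDivisors R) f
  have hd : (d : R) ≠ 0 := nonZeroDivisors.ne_zero d.2
  have hd' : algebraMap R W.functionField d ≠ 0 :=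
    (map_ne_zero_iff _ (IsFractionRing.injective R W.functionField)).2 hd
  rw [← hcdf, IsFractionRing.mk'_eq_div] at ha ⊢
  have heq : (a : S) * algebraMap R S d = algebraMap R S c := hinj (by
    show algebraMap S W'.functionField (a * (g.stalkMap w').hom d) = _
    rw [map_mul, ha, ← hθ, ← map_mul, div_mul_cancel₀ _ hd', hθ]
    rfl)
  have mem : ∀ {x y : R} (b : S), b * algebraMap R S x = algebraMap R S y → y ∈ Ideal.span {x} := fun {x y} b h => by
    rw [← Ideal.comap_map_eq_self_of_faithfullyFlat (B := S) (Ideal.span {x}), Ideal.mem_comap, Ideal.map_span,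
      Set.image_singleton, Ideal.mem_span_singleton]
    exact ⟨b, by rw [← h, mul_comm]⟩
  obtain ⟨x, hx⟩ := Ideal.mem_span_singleton.1 (mem a heq)
  obtain ⟨y, hy⟩ := Ideal.mem_span_singleton.1 (mem (x := c) (y := (d : R)) (↑a⁻¹ : S) (by rw [← heq, Units.inv_mul_cancel_left]))
  have hxy : x * y = 1 := mul_left_cancel₀ hd (by rw [← mul_assoc, ← hx, ← hy, mul_one])
  refine ⟨⟨x, y, hxy, by rwa [mul_comm]⟩, ?_⟩
  show algebraMap R W.functionField x = _
  rw [hx, map_mul, mul_comm, mul_div_cancel_right₀ _ hd']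

end Groth.Agent.GmDiv
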